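import Cfsg.Agent.Lib.RankTwoFusion.Proper

/-!
A centric radical subgroup whose detecting characteristic subgroup has order at most `p²`.
-/

set_option autoImplicit false

namespace Cfsg.Agent.Lib.RankTwoFusion

open Cfsg Cfsg.FusionSystem Cfsg.Agent.Lib.Fusion

theorem commutative_of_small {C : Type*} [Group C] {p : ℕ} [hp : Fact p.Prime] [Finite C]
    (hexp : ∀ c : C, c ^ p = 1) (hcard : Nat.card C ≤ p ^ 2) (a b : C) : a * b = b * a := by
  obtain ⟨k, hk⟩ := IsPGroup.iff_card.1 (show IsPGroup p C from fun c => ⟨1, by rw [pow_one, hexp]⟩)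
  have hk2 : k ≤ 2 := (pow_le_pow_iff_right₀ hp.out.one_lt).1 (hk ▸ hcard)
  rcases (show k = 0 ∨ k = 1 ∨ k = 2 by omega) with rfl | rfl | rfl
  · haveI := (Nat.card_eq_one_iff_unique.1 (hk.trans (pow_zero p))).1
    exact Subsingleton.elim _ _
  · haveI := isCyclic_of_prime_card (hk.trans (pow_one p))
    exact mul_comm' a b
  · exact IsPGroup.commutative_of_card_eq_prime_sq hk a b

/-- Powers of an automorphism unipotent on a short series. -/
theorem iter_three {A : Type*} [CommGroup A] {α : MulAut A} {x a b c : A} (hx : α x = x * a)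
    (ha : α a = a * b) (hb : α b = b * c) (hc : α c = c) (k : ℕ) :
    (α ^ k) x = x * a ^ k * b ^ k.choose 2 * c ^ k.choose 3 := by
  induction k with
  | zero => simp
  | succ k ih =>
    rw [pow_succ', MulAut.mul_apply, ih, map_mul, map_mul, map_mul, map_pow, map_pow, map_pow, hx, ha,
      hb, hc, mul_pow, mul_pow, Nat.choose_succ_succ', Nat.choose_one_right, Nat.choose_succ_succ' k 2,
      pow_add b, pow_add c, pow_succ' a]
    simp only [mul_assoc, mul_comm, mul_left_comm]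

variable {Ω : Type*} [Group Ω] {S : Subgroup Ω} {F : FusionSystem S} {p : ℕ} {R : Subgroup Ω}
variable [hp : Fact p.Prime] [Finite S]

/-- Case of a detecting subgroup of order at most `p²`: `R` itself is that subgroup. -/
theorem eq_top_of_abelian (hp5 : 5 ≤ p) (hS : IsPGroup p S) (hF : F.IsSaturated p)
    (hrank3 : ∀ E : Subgroup Ω, E ≤ S → IsElementaryAbelian p E → Nat.card E ≤ p ^ 2)
    (hRn : F.IsFullyNormalized R) (hRc : F.IsCentric R) (hRr : F.IsRadical p R)
    (C : Subgroup R) [C.Characteristic] (hCexp : ∀ c ∈ C, c ^ p = 1) (hCcard : Nat.card C ≤ p ^ 2)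
    (hCf : ∀ a : MulAut R, (orderOf a).Coprime p → (∀ c ∈ C, a c = c) → a = 1)
    (g : normalizerIn S R) (hgR : (g : Ω) ∉ R) (hgp : (g : Ω) ^ p ∈ R) : C = ⊤ := by
  classical
  have hRS := hRn.1
  haveI : Finite R := finite_of_le hRS
  haveI := finite_normalizerIn (S := S) R
  haveI := finite_mulAut (S := S) hRS
  have hpR : IsPGroup p R := hS.to_le hRS
  have hCexp' : ∀ c : C, c ^ p = 1 := fun c => Subtype.ext (hCexp c c.2)
  letI : CommGroup C := { (inferInstance : Group C) with mul_comm := commutative_of_small hCexp' hCcard }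
  let res : F.autGroup R →* MulAut C := (charHom C).comp (F.autGroup R).subtype
  have hres : ∀ (a : F.autGroup R) (c : C), ((res a c : C) : R) = (a : MulAut R) c := fun a c => rfl
  have hker : ∀ a, res a = 1 → (orderOf a).Coprime p → a = 1 := fun a ha hcop =>
    Subtype.ext (hCf _ (by rwa [Subgroup.orderOf_coe]) fun c hc => by
      rw [← hres a ⟨c, hc⟩, ha, MulAut.one_apply])
  obtain ⟨hW, l, m, hxl, hxm, hl1, hspan, -, hinn, -, ⟨τ, hτ⟩, hirr, -⟩ :=
    exists_lift hp5 hS hF hRn hRc hRr hCexp' hCcard res hker g hgR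
  have hCz : ∀ r : R, ∀ c ∈ C, r * c = c * r := by
    intro r c hc
    have h := congrArg (fun b : MulAut C => ((b ⟨c, hc⟩ : C) : R))
      (hinn ⟨r, le_normalizerIn hRS r.2⟩ r.2)
    simp only [hres, MulAut.one_apply] at h
    have h' := congrArg Subtype.val h
    rw [actHom_apply] at h'
    exact Subtype.ext (mul_inv_eq_iff_eq_mul.1 h')
  have hCel : IsElementaryAbelian p C := ⟨⟨⟨fun a b => mul_comm a b⟩⟩, hCexp⟩
  have hmemC : ∀ r : R, r ^ p = 1 → r ∈ C := fun r hr =>
    (noBig_of_le hrank3 hRS).mem_of_commute hCel hW hr fun c hc => (hCz r c hc).symm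
  -- an involution without fixed points
  obtain ⟨s, n, hn, hsn⟩ := Nat.exists_eq_pow_mul_and_not_dvd (orderOf_pos τ).ne' 2 (by norm_num)
  set θ := τ ^ n with hθ
  have hθs : θ ^ 2 ^ s = 1 := by rw [hθ, ← pow_mul, mul_comm, ← hsn, pow_orderOf_eq_one]
  have hθinv : ∀ w : C, res θ w = w⁻¹ := by
    intro w
    have key : ∀ j : ℕ, (res τ ^ j) w = if Even j then w else w⁻¹ := by
      intro j
      induction j with
      | zero => simp
      | succ j ih =>
        rw [pow_succ', MulAut.mul_apply, ih]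
        by_cases hj : Even j
        · rw [if_pos hj, if_neg (by simp [Nat.even_add_one, hj]), hτ]
        · rw [if_neg hj, if_pos (by simp [Nat.even_add_one, hj]), map_inv, hτ, inv_inv]
    rw [hθ, map_pow, key n, if_neg]
    rw [Nat.even_iff]
    omega
  have hcop2 : Nat.Coprime (2 ^ s) p :=
    Nat.Coprime.pow_left s ((Nat.coprime_primes Nat.prime_two hp.out).2 (by omega))
  have hθ2 : θ * θ = 1 := by
    refine hker _ (MulEquiv.ext fun w => ?_) (Nat.Coprime.coprime_dvd_left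
      (orderOf_dvd_of_pow_eq_one ?_) hcop2)
    · rw [map_mul, MulAut.mul_apply, hθinv, hθinv, inv_inv, MulAut.one_apply]
    · rw [(Commute.refl θ).mul_pow, hθs, one_mul]
  have hfix : MonoidHom.FixedPointFree (θ : MulAut R) := by
    intro y hy
    by_contra hy1
    obtain ⟨k, hk⟩ := hpR y
    obtain ⟨j, -, hj⟩ := (Nat.dvd_prime_pow hp.out).1 (orderOf_dvd_of_pow_eq_one hk)
    have hj0 : j ≠ 0 := by
      rintro rfl
      exact hy1 (orderOf_eq_one_iff.1 (by rw [hj, pow_zero]))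
    set w := y ^ p ^ (j - 1) with hw
    have hwp : w ^ p = 1 := by
      rw [hw, ← pow_mul, ← pow_succ, Nat.sub_add_cancel (Nat.pos_of_ne_zero hj0), ← hj, pow_orderOf_eq_one]
    have hw1 : w ≠ 1 := pow_ne_one_of_lt_orderOf (pow_ne_zero _ hp.out.ne_zero)
      (by rw [hj]; exact Nat.pow_lt_pow_right hp.out.one_lt (by omega))
    have h := congrArg Subtype.val (hθinv ⟨w, hmemC w hwp⟩)
    rw [hres] at h
    change (θ : MulAut R) w = w⁻¹ at h
    rw [hw, map_pow, hy, eq_inv_iff_mul_eq_one, ← hw, ← pow_two] at h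
    exact hw1 (orderOf_eq_one_iff.1 (Nat.eq_one_of_dvd_coprimes
      ((Nat.coprime_primes Nat.prime_two hp.out).2 (by omega))
      (orderOf_dvd_of_pow_eq_one h) (orderOf_dvd_of_pow_eq_one hwp)))
  have hRcomm : ∀ a b : R, a * b = b * a := fun a b => (hfix.commute_all_of_involutive (fun y => by
    show ((θ : MulAut R) * (θ : MulAut R)) y = y
    rw [← Subgroup.coe_mul, hθ2, Subgroup.coe_one, MulAut.one_apply]) a b).eq
  letI : CommGroup R := { (inferInstance : Group R) with mul_comm := hRcomm }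
  -- exponent `p`
  by_contra hC
  obtain ⟨r, hr⟩ : ∃ r : R, r ^ p ≠ 1 := by
    by_contra! h
    exact hC (eq_top_iff.2 fun r _ => hmemC r (h r))
  let I : Subgroup C :=
    { carrier := {c | ∃ y : R, y ^ p = (c : R)}
      one_mem' := ⟨1, one_pow p⟩
      mul_mem' := by
        rintro a b ⟨u, hu⟩ ⟨v, hv⟩
        exact ⟨u * v, by rw [Subgroup.coe_mul, mul_pow, hu, hv]⟩
      inv_mem' := by
        rintro a ⟨u, hu⟩
        exact ⟨u⁻¹, by rw [Subgroup.coe_inv, inv_pow, hu]⟩ }
  have hI : I ≠ ⊥ := by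
    obtain ⟨k, hk⟩ := hpR r
    obtain ⟨j, -, hj⟩ := (Nat.dvd_prime_pow hp.out).1 (orderOf_dvd_of_pow_eq_one hk)
    have hj2 : 2 ≤ j := by
      by_contra h
      refine hr (orderOf_dvd_iff_pow_eq_one.1 ?_)
      rw [hj]
      exact (pow_dvd_pow p (show j ≤ 1 by omega)).trans (pow_one p).dvd
    set w := r ^ p ^ (j - 1) with hw
    have hwp : w ^ p = 1 := by
      rw [hw, ← pow_mul, ← pow_succ, Nat.sub_add_cancel (by omega), ← hj, pow_orderOf_eq_one]
    intro hbot
    have h : (⟨w, hmemC w hwp⟩ : C) ∈ I :=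
      ⟨r ^ p ^ (j - 2), by rw [← pow_mul, ← pow_succ, show j - 2 + 1 = j - 1 by omega]⟩
    rw [hbot, Subgroup.mem_bot] at h
    exact pow_ne_one_of_lt_orderOf (pow_ne_zero _ hp.out.ne_zero)
      (by rw [hj]; exact Nat.pow_lt_pow_right hp.out.one_lt (by omega)) (congrArg Subtype.val h)
  obtain ⟨x₀, hx₀⟩ : m ∈ I := by
    have hinv : ∀ (a : F.autGroup R), ∀ c ∈ I, res a c ∈ I := by
      rintro a c ⟨y, hy⟩
      exact ⟨(a : MulAut R) y, by rw [hres, ← map_pow, hy]⟩
    rw [hirr I hI hinv]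
    exact Subgroup.mem_top m
  set c : MulAut R := ((actHom (F := F) hRS g : F.autGroup R) : MulAut R) with hc
  have hcl : c (l : R) = l := by rw [hc, ← hres, hxl]
  have hcm : c (m : R) = l * m := by rw [hc, ← hres, hxm, Subgroup.coe_mul]
  set y₁ := x₀⁻¹ * c x₀ with hy₁
  have hy₁p : y₁ ^ p = l := by
    rw [hy₁, mul_pow, inv_pow, ← map_pow, hx₀, hcm, mul_comm (l : R), inv_mul_cancel_left]
  set y₂ := y₁⁻¹ * c y₁ with hy₂
  have hy₂C : y₂ ∈ C := hmemC _ (by rw [hy₂, mul_pow, inv_pow, ← map_pow, hy₁p, hcl, inv_mul_cancel])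
  obtain ⟨i, j, hij⟩ := hspan ⟨y₂, hy₂C⟩
  have hij' : y₂ = (l : R) ^ i * (m : R) ^ j := congrArg Subtype.val hij
  set z := (l : R) ^ j with hz
  have hcy₂ : c y₂ = y₂ * z := by
    rw [hij', map_mul, map_pow, map_pow, hcl, hcm, mul_pow, hz, mul_assoc, mul_comm ((m : R) ^ j)]
  have hcz : c z = z := by rw [hz, map_pow, hcl]
  have hit := fun k => iter_three (α := c) (x := x₀) (show c x₀ = x₀ * y₁ by rw [hy₁, mul_inv_cancel_left])
    (show c y₁ = y₁ * y₂ by rw [hy₂, mul_inv_cancel_left]) hcy₂ hcz k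
  have hk : ∀ {u : R} {k : ℕ}, u ^ p = 1 → p ∣ k → u ^ k = 1 := by
    rintro u k hu ⟨d, rfl⟩
    rw [pow_mul, hu, one_pow]
  have h2 : (c ^ p) x₀ = x₀ := by
    rw [hc, ← Subgroup.coe_pow, ← map_pow]
    refine Subtype.ext ?_
    rw [actHom_apply, Subgroup.coe_pow]
    have h := congrArg Subtype.val (hRcomm ⟨_, hgp⟩ x₀)
    exact mul_inv_eq_iff_eq_mul.2 h
  have h3 := hit p
  rw [h2, hy₁p, hk (hCexp _ hy₂C) (hp.out.dvd_choose_self (by norm_num) (by omega)),
    hk (u := z) (by rw [hz, ← pow_mul, mul_comm, pow_mul, hCexp _ l.2, one_pow])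
      (hp.out.dvd_choose_self (by norm_num) (by omega)), mul_one, mul_one, left_eq_mul] at h3
  exact hl1 (Subtype.ext h3)

/-- A detecting subgroup of order at most `p²` is impossible. -/
theorem false_of_abelian (hp5 : 5 ≤ p) (hS : IsPGroup p S) (hF : F.IsSaturated p)
    (hrank3 : ∀ E : Subgroup Ω, E ≤ S → IsElementaryAbelian p E → Nat.card E ≤ p ^ 2)
    (hnot : ¬ (Nat.card S = p ^ 3 ∧ Monoid.exponent ↥S = p))
    (hRn : F.IsFullyNormalized R) (hRc : F.IsCentric R) (hRr : F.IsRadical p R)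
    (C : Subgroup R) [C.Characteristic] (hCexp : ∀ c ∈ C, c ^ p = 1) (hCcard : Nat.card C ≤ p ^ 2)
    (hCf : ∀ a : MulAut R, (orderOf a).Coprime p → (∀ c ∈ C, a c = c) → a = 1)
    (g : normalizerIn S R) (hgR : (g : Ω) ∉ R) (hgp : (g : Ω) ^ p ∈ R) : False := by
  classical
  have htop := eq_top_of_abelian hp5 hS hF hrank3 hRn hRc hRr C hCexp hCcard hCf g hgR hgp
  have hRS := hRn.1
  haveI : Finite R := finite_of_le hRS
  haveI := finite_normalizerIn (S := S) R
  have hRexp : ∀ r : R, r ^ p = 1 := fun r => hCexp r (htop ▸ Subgroup.mem_top r)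
  have hRcard' : Nat.card R ≤ p ^ 2 := by
    rw [← Subgroup.card_top (G := R), ← htop]; exact hCcard
  letI : CommGroup R := { (inferInstance : Group R) with mul_comm := commutative_of_small hRexp hRcard' }
  obtain ⟨hW, l, m, hxl, hxm, hl1, hspan, hind, hinn, hfixl, -, -, hdec, a, ψ, hψ, hφl, hφm, hψR, hψg⟩ :=
    exists_lift hp5 hS hF hRn hRc hRr hRexp hRcard' (F.autGroup R).subtype
      (fun a ha _ => Subtype.ext ha) g hgR
  set x : MulAut R := ((actHom (F := F) hRS g : F.autGroup R) : MulAut R) with hx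
  have hxl' : x l = l := hxl
  have hxm' : x m = l * m := hxm
  have hxt : ∀ t : ℕ, (x ^ t) m = l ^ t * m := by
    intro t
    rw [Fusion.SmallOmega.iter_apply (α := x) (w := m) (d := l) (by rw [hxm', mul_comm]) hxl' t, mul_comm]
  have hRN : R ≤ normalizerIn S R := le_normalizerIn hRS
  set ι : R →* normalizerIn S R := Subgroup.inclusion hRN with hι
  have hιi : Function.Injective ι := Subgroup.inclusion_injective hRN
  set R0 := (⊤ : Subgroup R).map ι with hR0
  set L0 := (Subgroup.zpowers l).map ι with hL0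
  have hmemR0 : ∀ v : normalizerIn S R, (v : Ω) ∈ R → v ∈ R0 :=
    fun v hv => ⟨⟨v, hv⟩, Subgroup.mem_top _, rfl⟩
  have hact : ∀ (v : normalizerIn S R) (r : R),
      v * ι r * v⁻¹ = ι ((((actHom hRS v : F.autGroup R)) : MulAut R) r) := fun v r => Subtype.ext rfl
  have hLc : L0 ≤ Subgroup.center (normalizerIn S R) := by
    refine fun u hu => Subgroup.mem_center_iff.2 fun v => ?_
    obtain ⟨r, hr, rfl⟩ := hu
    obtain ⟨i, rfl⟩ := Subgroup.mem_zpowers_iff.1 hr
    have h : ((actHom hRS v : F.autGroup R) : MulAut R) l = l := hfixl v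
    exact mul_inv_eq_iff_eq_mul.1 (by rw [hact, map_zpow, h])
  haveI : R0.Normal := ⟨by
    rintro _ ⟨r, -, rfl⟩ v
    exact ⟨_, Subgroup.mem_top _, (hact v r).symm⟩⟩
  haveI : L0.Normal := ⟨fun u hu v => by
    rwa [Subgroup.mem_center_iff.1 (hLc hu) v, mul_inv_cancel_right]⟩
  have hLR : L0 ≤ R0 := Subgroup.map_mono le_top
  have hR0card : Nat.card R0 = p ^ 2 := by
    rw [hR0, Subgroup.card_map_of_injective hιi, Subgroup.card_top, hW]
  have hL0card : Nat.card L0 = p := by
    rw [hL0, Subgroup.card_map_of_injective hιi, Nat.card_zpowers, orderOf_eq_prime (hRexp l) hl1]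
  have hG : IsPGroup p (normalizerIn S R) := hS.to_le (normalizerIn_le R)
  have hR0exp : ∀ h ∈ R0, h ^ p = 1 := by
    rintro _ ⟨r, -, rfl⟩
    rw [← map_pow, hRexp, map_one]
  have hpow : ∀ (t : ℕ) (v : normalizerIn S R), v ∈ R0 → (g ^ t * v) ^ p = (g ^ p) ^ t := by
    intro t v hv
    rw [mul_pow_eq_pow hp5 hLR (bot_le : (⊥ : Subgroup (normalizerIn S R)) ≤ L0) hR0exp
      (fun u h hh => comm_mem_of_index_prime hG hLR (by rw [hR0card, hL0card, pow_two]) u hh)
      (fun u e he => Subgroup.mem_bot.2 (by rw [Subgroup.mem_center_iff.1 (hLc he) u, mul_inv_cancel_right,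
        mul_inv_cancel])) bot_le _ hv, ← pow_mul, mul_comm, pow_mul]
  -- `g` has order `p`
  set r₀ : R := ⟨_, hgp⟩ with hr₀
  have hgr : g ^ p = ι r₀ := Subtype.ext rfl
  have hcomm0 : x r₀ = r₀ := hιi (by
    rw [hx, ← hact, ← hgr, (Commute.self_pow g p).eq, mul_inv_cancel_right])
  obtain ⟨i, j, hij⟩ := hspan r₀
  have hj0 : (j : ZMod p) = 0 := by
    rw [hij, map_mul, map_pow, map_pow, hxl', hxm', mul_pow, mul_left_comm] at hcomm0
    simpa using cast_eq_of_pow_eq (hRexp l) hl1 (b := 0) (by rw [pow_zero]; exact mul_eq_right.1 hcomm0)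
  rw [pow_congr hRexp m (j := 0) (by rw [hj0, Nat.cast_zero]), pow_zero, mul_one] at hij
  rw [hij] at hgr
  have hψι : ∀ r : R, ψ (ι r) = ι ((a : MulAut R) r) := fun r => Subtype.ext (hψR r (ι r) rfl)
  have hi0 : (i : ZMod p) = 0 := by
    have h1 : ψ (g ^ p) = (g ^ p) ^ 4 := by
      have e : ψ g = g ^ 4 * ((g ^ 4)⁻¹ * ψ g) := (mul_inv_cancel_left _ _).symm
      rw [map_pow, e, hpow 4 _ (hmemR0 _ hψg)]
    rw [hgr, hψι, ← map_pow] at h1
    have h2 := hιi h1
    rw [map_pow, show (a : MulAut R) l = l ^ (p - 2) from hφl, ← pow_mul, ← pow_mul] at h2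
    have h3 := cast_eq_of_pow_eq (hRexp l) hl1 h2
    push_cast [Nat.cast_sub hp.out.two_le, ZMod.natCast_self] at h3
    have h6 : ((6 : ℕ) : ZMod p) * i = 0 := by push_cast; linear_combination -h3
    refine (mul_eq_zero.1 h6).resolve_left fun h => ?_
    rw [ZMod.natCast_eq_zero_iff] at h
    have h' := Nat.le_of_dvd (by norm_num) h
    rcases (show p = 5 ∨ p = 6 by omega) with rfl | rfl
    · norm_num at h
    · exact absurd hp.out (by norm_num)
  have hg1 : g ^ p = 1 := by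
    rw [hgr, pow_congr hRexp l (j := 0) (by rw [hi0, Nat.cast_zero]), pow_zero, map_one]
  have hNdec : ∀ v : normalizerIn S R, ∃ t : ℕ, (g ^ t)⁻¹ * v ∈ R0 := fun v => by
    obtain ⟨t, ht⟩ := hdec v
    exact ⟨t, hmemR0 _ ht⟩
  have hNexp : ∀ v : normalizerIn S R, v ^ p = 1 := fun v => by
    obtain ⟨t, ht⟩ := hNdec v
    rw [← mul_inv_cancel_left (g ^ t) v, hpow t _ ht, hg1, one_pow]
  have hNcard : Nat.card (normalizerIn S R) = p ^ 3 := by
    have hgen : ∀ q : normalizerIn S R ⧸ R0, q ∈ Subgroup.zpowers (g : normalizerIn S R ⧸ R0) := by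
      intro q
      induction q using QuotientGroup.induction_on with
      | H v =>
        obtain ⟨t, ht⟩ := hNdec v
        refine Subgroup.mem_zpowers_iff.2 ⟨t, ?_⟩
        rw [zpow_natCast, ← QuotientGroup.mk_pow, QuotientGroup.eq]
        exact ht
    have hord : orderOf (g : normalizerIn S R ⧸ R0) = p := by
      refine orderOf_eq_prime (by rw [← QuotientGroup.mk_pow, hg1, QuotientGroup.mk_one]) fun h => hgR ?_
      obtain ⟨r, -, hr⟩ := (QuotientGroup.eq_one_iff _).1 h
      rw [← hr]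
      exact r.2
    rw [Subgroup.card_eq_card_quotient_mul_card_subgroup R0, hR0card,
      ← orderOf_eq_card_of_forall_mem_zpowers hgen, hord]
    ring
  by_cases hNS : normalizerIn S R = S
  · refine hnot ⟨hNS ▸ hNcard, ?_⟩
    have hdvd : Monoid.exponent ↥S ∣ p := Monoid.exponent_dvd_of_forall_pow_eq_one fun v => by
      have h : (v : Ω) ∈ normalizerIn S R := hNS.symm ▸ v.2
      have h' := congrArg (fun u : normalizerIn S R => (u : Ω)) (hNexp ⟨v, h⟩)
      simp only [Subgroup.coe_pow, Subgroup.coe_one] at h'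
      exact Subtype.ext (by rw [Subgroup.coe_pow, Subgroup.coe_one]; exact h')
    refine ((Nat.dvd_prime hp.out).1 hdvd).resolve_left fun h => ?_
    haveI := Monoid.exp_eq_one_iff.1 h
    have h1 : Nat.card S = 1 := Nat.card_unique
    have h2 := hNS ▸ hNcard
    rw [h1] at h2
    exact absurd h2.symm (Nat.one_lt_pow (by norm_num) hp.out.one_lt).ne'
  set L := (Subgroup.zpowers l).map R.subtype with hL
  refine false_of_proper hp5 hS hF hrank3 hRn hRc hW (normalizerIn S R) rfl hNcard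
    (fun v hv => congrArg Subtype.val (hNexp ⟨v, hv⟩)) hNS L (Subgroup.map_subtype_le _) ?_ ?_ ?_
    ψ hψ (ι m) m.2 ?_ ?_
  · rw [hL, Subgroup.card_map_of_injective R.subtype_injective, Nat.card_zpowers,
      orderOf_eq_prime (hRexp l) hl1]
  · rintro _ ⟨r, hr, rfl⟩ w hw
    exact congrArg Subtype.val (Subgroup.mem_center_iff.1 (hLc (Subgroup.mem_map_of_mem ι hr)) ⟨w, hw⟩)
  · intro v hv hvc
    obtain ⟨t, ht⟩ := hNdec ⟨v, hv⟩
    obtain ⟨r, -, hr⟩ := ht
    have hv' : (⟨v, hv⟩ : normalizerIn S R) = g ^ t * ι r := by rw [hr, mul_inv_cancel_left]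
    have hm0 : (x ^ t) m = m := hιi (by
      rw [hx, ← Subgroup.coe_pow, ← map_pow, ← hact, mul_inv_eq_iff_eq_mul]
      have hc : (⟨v, hv⟩ : normalizerIn S R) * ι m = ι m * ⟨v, hv⟩ :=
        (Subtype.ext (hvc _ (ι m).2)).symm
      rw [hv'] at hc
      have hrm : ι r * ι m = ι m * ι r := by rw [← map_mul, ← map_mul, mul_comm]
      rw [mul_assoc, hrm, ← mul_assoc, ← mul_assoc] at hc
      exact mul_right_cancel hc)
    rw [hxt] at hm0
    have ht0 : (t : ZMod p) = 0 := by
      simpa using cast_eq_of_pow_eq (hRexp l) hl1 (b := 0) (by rw [pow_zero]; exact mul_eq_right.1 hm0)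
    obtain ⟨d, rfl⟩ := (ZMod.natCast_eq_zero_iff t p).1 ht0
    rw [pow_mul, hg1, one_pow, one_mul] at hv'
    have hr1 : x r = r := hιi (by
      rw [hx, ← hact, mul_inv_eq_iff_eq_mul, ← hv']
      exact Subtype.ext (hvc _ g.2))
    obtain ⟨i', j', hij'⟩ := hspan r
    rw [hij', map_mul, map_pow, map_pow, hxl', hxm', mul_pow, mul_left_comm] at hr1
    have hj' : (j' : ZMod p) = 0 := by
      simpa using cast_eq_of_pow_eq (hRexp l) hl1 (b := 0) (by rw [pow_zero]; exact mul_eq_right.1 hr1)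
    refine ⟨r, ?_, (congrArg Subtype.val hv').symm⟩
    rw [hij', pow_congr hRexp m (j := 0) (by rw [hj', Nat.cast_zero]), pow_zero, mul_one]
    exact Subgroup.pow_mem _ (Subgroup.mem_zpowers l) _
  · intro hmem
    obtain ⟨r, hr, hrm⟩ := hmem
    obtain rfl : r = m := Subtype.ext hrm
    obtain ⟨k, hk⟩ := (isOfFinOrder_of_finite l).mem_powers_iff_mem_zpowers.2 hr
    simp only at hk
    have h := (hind k (p - 1) (by rw [hk, ← pow_succ', Nat.sub_add_cancel hp.out.one_le, hRexp])).2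
    rw [ZMod.natCast_eq_zero_iff] at h
    exact absurd (Nat.le_of_dvd (by omega) h) (by omega)
  · rw [hψι, show (a : MulAut R) m = m ^ ((p - 1) / 2) from hφm, map_pow]

end Cfsg.Agent.Lib.RankTwoFusion
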