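import Cfsg.Agent.Lib.RankTwoFusion.GroupLemmas

/-!
Subgroups of order `p³` and exponent `p` in groups of rank two: their automorphisms trivial modulo the centre.
-/

set_option autoImplicit false

namespace Cfsg.Agent.Lib.RankTwoFusion

open Cfsg

variable {G : Type*} [Group G] [Finite G] {p : ℕ} [hp : Fact p.Prime]

/-- An automorphism trivial modulo the centre is conjugation by an element. -/
theorem exists_conj_of_trivial_mod (hG : IsPGroup p G) (hrk : NoBig p G) {H E Z : Subgroup G}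
    [H.Normal] [E.Normal] [Z.Normal] (hEH : E ≤ H) (hZE : Z ≤ E) (hHcard : Nat.card H = p ^ 3)
    (hEcard : Nat.card E = p ^ 2) (hZcard : Nat.card Z = p) (hexp : ∀ h ∈ H, h ^ p = 1)
    (f : H →* G) (hf : ∀ v : H, f v * (v : G)⁻¹ ∈ Z) :
    ∃ u ∈ H, ∀ v : H, f v = u * (v : G) * u⁻¹ := by
  have hEHc : Nat.card H = p * Nat.card E := by rw [hHcard, hEcard]; ring
  have hZEc : Nat.card E = p * Nat.card Z := by rw [hEcard, hZcard]; ring
  have hEZ : ∀ g : G, ∀ e ∈ E, g * e * g⁻¹ * e⁻¹ ∈ Z := fun g e he =>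
    comm_mem_of_index_prime hG hZE hZEc g he
  have cenZ : ∀ n ∈ Z, ∀ g : G, g * n = n * g := fun n hn g => mul_inv_eq_iff_eq_mul.1
    (mul_inv_eq_one.1 (Subgroup.mem_bot.1 (comm_mem_of_index_prime hG (bot_le : (⊥ : Subgroup G) ≤ Z)
      (by rw [Subgroup.card_bot, mul_one, hZcard]) g hn)))
  obtain ⟨e, he, heZ⟩ : ∃ e ∈ E, e ∉ Z := by
    refine SetLike.not_le_iff_exists.1 fun h => ?_
    have := Subgroup.card_le_of_le h
    rw [hZEc, hZcard] at this
    have := hp.out.two_le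
    nlinarith
  obtain ⟨c, hc, hcE⟩ : ∃ c ∈ H, c ∉ E := by
    refine SetLike.not_le_iff_exists.1 fun h => ?_
    have := Subgroup.card_le_of_le h
    rw [hHcard, hEcard] at this
    have := (pow_le_pow_iff_right₀ hp.out.one_lt).1 this
    omega
  have hEdec : ∀ v ∈ E, ∃ a : ℕ, ∃ n ∈ Z, v = e ^ a * n := fun v hv =>
    exists_pow_mul_mem hZE hZEc he heZ hv
  have hEel : IsElementaryAbelian p E := by
    refine ElemAbelian.of_comm_of_pow (fun u hu v hv => ?_) fun u hu => hexp u (hEH hu)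
    obtain ⟨a, n, hn, rfl⟩ := hEdec u hu
    obtain ⟨b, m, hm, rfl⟩ := hEdec v hv
    exact ((((Commute.refl e).pow_pow a b).mul_right (cenZ m hm _)).mul_left
      ((show Commute n (e ^ b) from (cenZ n hn _).symm).mul_right (cenZ m hm n))).eq
  set z := e * c * e⁻¹ * c⁻¹ with hz
  have hzZ : z ∈ Z := by
    have := Z.inv_mem (hEZ c e he)
    simpa [hz, mul_assoc] using this
  have hz1 : z ≠ 1 := by
    intro h
    have hce : Commute e c := mul_inv_eq_iff_eq_mul.1 (mul_inv_eq_one.1 h)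
    refine hcE (hrk.mem_of_commute hEel hEcard (hexp c hc) fun v hv => ?_)
    obtain ⟨a, n, hn, rfl⟩ := hEdec v hv
    exact ((hce.pow_left a).mul_left (cenZ n hn c).symm).eq
  have hzp : z ^ p = 1 := hexp z (hEH (hZE hzZ))
  have hZpow : ∀ n ∈ Z, ∃ a : ℕ, n = z ^ a := by
    intro n hn
    obtain ⟨a, m, hm, rfl⟩ := exists_pow_mul_mem (bot_le : (⊥ : Subgroup G) ≤ Z)
      (by rw [Subgroup.card_bot, mul_one, hZcard]) hzZ (fun h => hz1 (Subgroup.mem_bot.1 h)) hn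
    exact ⟨a, by rw [Subgroup.mem_bot.1 hm, mul_one]⟩
  obtain ⟨i, hi⟩ := hZpow _ (hf ⟨c, hc⟩)
  obtain ⟨j, hj⟩ := hZpow _ (hf ⟨e, hEH he⟩)
  rw [mul_inv_eq_iff_eq_mul] at hi hj
  have h1 : ∀ a : ℕ, e ^ a * c * (e ^ a)⁻¹ = z ^ a * c := by
    intro a
    induction a with
    | zero => simp
    | succ a ih =>
      calc e ^ (a + 1) * c * (e ^ (a + 1))⁻¹ = e * (e ^ a * c * (e ^ a)⁻¹) * e⁻¹ := by
            rw [pow_succ']; simp only [mul_inv_rev, mul_assoc]
        _ = z ^ a * (e * c * e⁻¹) := by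
            rw [ih, ← mul_assoc e, cenZ _ (Z.pow_mem hzZ a) e]; simp only [mul_assoc]
        _ = z ^ (a + 1) * c := by rw [hz, pow_succ]; group
  set j' := (p - 1) * j with hj'
  have hjj : z ^ j' * z ^ j = 1 := by
    rw [← pow_add, hj', ← Nat.succ_mul, Nat.succ_eq_add_one, Nat.sub_add_cancel hp.out.one_le,
      pow_mul, hzp, one_pow]
  have h2 : c ^ j' * e * (c ^ j')⁻¹ = z ^ j * e := by
    have hs : e * c ^ j' * e⁻¹ = z ^ j' * c ^ j' := by
      have h := h1 1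
      rw [pow_one, pow_one] at h
      rw [← conj_pow, h, (show Commute z c from (cenZ z hzZ c).symm).mul_pow]
    calc c ^ j' * e * (c ^ j')⁻¹ = (z ^ j')⁻¹ * (z ^ j' * c ^ j') * e * (c ^ j')⁻¹ := by group
      _ = (z ^ j')⁻¹ * e := by rw [← hs]; group
      _ = z ^ j * e := by rw [inv_eq_of_mul_eq_one_right hjj]
  refine ⟨e ^ i * c ^ j', H.mul_mem (H.pow_mem (hEH he) i) (H.pow_mem hc j'), ?_⟩
  set u := e ^ i * c ^ j' with hu
  let g : H →* G := (MulAut.conj u).toMonoidHom.comp H.subtype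
  let K : Subgroup H := f.eqLocus g
  have hcK : (⟨c, hc⟩ : H) ∈ K := by
    show f _ = u * c * u⁻¹
    rw [hi, hu]
    calc z ^ i * c = e ^ i * c * (e ^ i)⁻¹ := (h1 i).symm
      _ = e ^ i * c ^ j' * c * (e ^ i * c ^ j')⁻¹ := by group
  have heK : (⟨e, hEH he⟩ : H) ∈ K := by
    show f _ = u * e * u⁻¹
    rw [hj, hu]
    calc z ^ j * e = e ^ i * (z ^ j * e) * (e ^ i)⁻¹ := by
          rw [(show Commute (e ^ i) (z ^ j * e) from Commute.mul_right (cenZ _ (Z.pow_mem hzZ j) _)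
            ((Commute.refl e).pow_left i)).eq, mul_inv_cancel_right]
      _ = e ^ i * c ^ j' * e * (e ^ i * c ^ j')⁻¹ := by rw [← h2]; group
  have hzK : (⟨z, hEH (hZE hzZ)⟩ : H) ∈ K := by
    have h := K.mul_mem (K.mul_mem (K.mul_mem heK hcK) (K.inv_mem heK)) (K.inv_mem hcK)
    exact h
  intro v
  obtain ⟨a, v₁, hv₁, hv⟩ := exists_pow_mul_mem hEH hEHc hc hcE v.2
  obtain ⟨b, n, hn, rfl⟩ := hEdec v₁ hv₁
  obtain ⟨k, rfl⟩ := hZpow n hn
  have hvK : v ∈ K := by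
    have h := K.mul_mem (K.pow_mem hcK a) (K.mul_mem (K.pow_mem heK b) (K.pow_mem hzK k))
    convert h using 1
    exact Subtype.ext hv
  exact hvK

end Cfsg.Agent.Lib.RankTwoFusion
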