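import Cfsg.Agent.Lib.RankTwoFusion.Lift
import Cfsg.Agent.Lib.RankTwoFusion.Heis

/-!
A centric radical subgroup whose detecting characteristic subgroup is extraspecial of order `p³`.
-/

set_option autoImplicit false

namespace Cfsg.Agent.Lib.RankTwoFusion

open Cfsg Cfsg.FusionSystem Cfsg.Agent.Lib.Fusion

/-- Restriction of automorphisms to a characteristic subgroup. -/
def charHom {G : Type*} [Group G] (C : Subgroup G) [hC : C.Characteristic] : MulAut G →* MulAut C where
  toFun a :=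
    { toFun := fun c => ⟨a c, Subgroup.characteristic_iff_le_comap.1 hC a c.2⟩
      invFun := fun c => ⟨a⁻¹ c, Subgroup.characteristic_iff_le_comap.1 hC a⁻¹ c.2⟩
      left_inv := fun c => Subtype.ext (MulAut.inv_apply_self G a c)
      right_inv := fun c => Subtype.ext (MulAut.apply_inv_self G a c)
      map_mul' := fun c d => Subtype.ext (map_mul a _ _) }
  map_one' := MulEquiv.ext fun _ => rfl
  map_mul' _ _ := MulEquiv.ext fun _ => rfl

theorem charHom_apply {G : Type*} [Group G] (C : Subgroup G) [C.Characteristic] (a : MulAut G) (c : C) :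
    ((charHom C a c : C) : G) = a c := rfl

/-- Automorphisms induced modulo the centre. -/
def centerQuotHom (C : Type*) [Group C] : MulAut C →* MulAut (C ⧸ Subgroup.center C) where
  toFun a := QuotientGroup.congr (Subgroup.center C) (Subgroup.center C) a
    (Subgroup.characteristic_iff_map_eq.1 inferInstance a)
  map_one' := MulEquiv.ext fun w => by
    induction w using QuotientGroup.induction_on
    rfl
  map_mul' _ _ := MulEquiv.ext fun w => by
    induction w using QuotientGroup.induction_on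
    rfl

theorem centerQuotHom_mk {C : Type*} [Group C] (a : MulAut C) (c : C) :
    centerQuotHom C a (c : C ⧸ Subgroup.center C) = ((a c : C) : C ⧸ Subgroup.center C) := rfl

theorem card_center_of_cube {C : Type*} [Group C] {p : ℕ} [hp : Fact p.Prime] [Finite C]
    (hcard : Nat.card C = p ^ 3) (hne : ¬ ∀ a b : C, a * b = b * a) :
    Nat.card (Subgroup.center C) = p := by
  have hPG : IsPGroup p C := IsPGroup.of_card hcard
  haveI : Nontrivial C := Finite.one_lt_card_iff_nontrivial.1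
    (hcard ▸ Nat.one_lt_pow (by norm_num) hp.out.one_lt)
  obtain ⟨k, hk3, hk⟩ := (Nat.dvd_prime_pow hp.out).1 (hcard ▸ Subgroup.card_subgroup_dvd_card (Subgroup.center C))
  have hk0 : k ≠ 0 := by
    rintro rfl
    haveI := hPG.center_nontrivial
    have := Finite.one_lt_card (α := Subgroup.center C)
    rw [hk, pow_zero] at this
    omega
  have hidx : Nat.card (C ⧸ Subgroup.center C) = p ^ (3 - k) := by
    have h := Subgroup.card_eq_card_quotient_mul_card_subgroup (Subgroup.center C)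
    rw [hcard, hk] at h
    refine Nat.eq_of_mul_eq_mul_right (pow_pos hp.out.pos k) ?_
    rw [← h, ← pow_add, Nat.sub_add_cancel hk3]
  have hnc : ¬ IsCyclic (C ⧸ Subgroup.center C) := fun h => hne
    (commutative_of_cyclic_center_quotient (QuotientGroup.mk' (Subgroup.center C)) (by simp))
  obtain rfl : k = 1 := by
    by_contra hk1
    refine hnc ?_
    rcases (show k = 2 ∨ k = 3 by omega) with rfl | rfl
    · exact isCyclic_of_prime_card (p := p) (by rw [hidx, pow_one])
    · haveI := (Nat.card_eq_one_iff_unique.1 (hidx.trans (pow_zero p))).1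
      infer_instance
  rw [hk, pow_one]

theorem half_sq_ne_one {p : ℕ} [hp : Fact p.Prime] (hp5 : 5 ≤ p) :
    (((p - 1) / 2 : ℕ) : ZMod p) ^ 2 ≠ 1 := by
  intro hs
  have h : (p - 1) / 2 * 2 = p - 1 := Nat.div_mul_cancel (hp.out.even_sub_one (by omega)).two_dvd
  have h' := congrArg (fun n : ℕ => (n : ZMod p)) h
  simp only [Nat.cast_mul, Nat.cast_sub hp.out.one_le, ZMod.natCast_self] at h'
  push_cast at h'
  have h3 : ((3 : ℕ) : ZMod p) = 0 := by
    push_cast
    linear_combination ((((p - 1) / 2 : ℕ) : ZMod p) * 2 - 1) * h' - 4 * hs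
  rw [ZMod.natCast_eq_zero_iff] at h3
  exact absurd (Nat.le_of_dvd (by norm_num) h3) (by omega)

variable {Ω : Type*} [Group Ω] {S : Subgroup Ω} {F : FusionSystem S} {p : ℕ} {R : Subgroup Ω}
variable [hp : Fact p.Prime] [Finite S]

theorem false_of_heisenberg (hp5 : 5 ≤ p) (hS : IsPGroup p S) (hF : F.IsSaturated p)
    (hrank3 : ∀ E : Subgroup Ω, E ≤ S → IsElementaryAbelian p E → Nat.card E ≤ p ^ 2)
    (hRn : F.IsFullyNormalized R) (hRc : F.IsCentric R) (hRr : F.IsRadical p R)
    (C : Subgroup R) [C.Characteristic] (hCexp : ∀ c ∈ C, c ^ p = 1) (hCcard : Nat.card C = p ^ 3)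
    (hCf : ∀ a : MulAut R, (orderOf a).Coprime p → (∀ c ∈ C, a c = c) → a = 1)
    (g : normalizerIn S R) (hgR : (g : Ω) ∉ R) (hgp : (g : Ω) ^ p ∈ R) : False := by
  classical
  have hRS := hRn.1
  haveI : Finite R := finite_of_le hRS
  haveI := finite_normalizerIn (S := S) R
  have hRN : R ≤ normalizerIn S R := le_normalizerIn hRS
  have hpR : IsPGroup p R := hS.to_le hRS
  have hne : ¬ ∀ a b : C, a * b = b * a := by
    intro h
    have hC : IsElementaryAbelian p C := ElemAbelian.of_comm_of_pow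
      (fun a ha b hb => congrArg Subtype.val (h ⟨a, ha⟩ ⟨b, hb⟩)) hCexp
    have := noBig_of_le hrank3 hRS C hC
    rw [hCcard] at this
    exact absurd this (Nat.not_le.2 (Nat.pow_lt_pow_right hp.out.one_lt (by norm_num)))
  have hZcard := card_center_of_cube hCcard hne
  have hWcard : Nat.card (C ⧸ Subgroup.center C) = p ^ 2 := by
    have h := Subgroup.card_eq_card_quotient_mul_card_subgroup (Subgroup.center C)
    rw [hCcard, hZcard, pow_succ] at h
    exact (Nat.eq_of_mul_eq_mul_right hp.out.pos h).symm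
  letI : CommGroup (C ⧸ Subgroup.center C) :=
    { (inferInstance : Group (C ⧸ Subgroup.center C)) with
      mul_comm := IsPGroup.commutative_of_card_eq_prime_sq hWcard }
  let res : F.autGroup R →* MulAut (C ⧸ Subgroup.center C) :=
    ((centerQuotHom C).comp (charHom C)).comp (F.autGroup R).subtype
  have hres : ∀ (a : F.autGroup R) (c : C), res a (c : C ⧸ Subgroup.center C) =
      ((charHom C (a : MulAut R) c : C) : C ⧸ Subgroup.center C) := fun a c => rfl
  have hexpW : ∀ w : C ⧸ Subgroup.center C, w ^ p = 1 := by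
    intro w
    induction w using QuotientGroup.induction_on with
    | H c =>
      rw [← QuotientGroup.mk_pow, show c ^ p = 1 from Subtype.ext (hCexp c c.2), QuotientGroup.mk_one]
  have hker : ∀ a, res a = 1 → (orderOf a).Coprime p → a = 1 := by
    intro a ha hcop
    rw [← Subgroup.orderOf_coe] at hcop
    set b := charHom C (a : MulAut R) with hb
    have hb' : ∀ c : C, c⁻¹ * b c ∈ Subgroup.center C := fun c => by
      rw [← QuotientGroup.eq]
      exact ((hres a c).symm.trans (DFunLike.congr_fun ha _)).symm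
    push_neg at hne
    obtain ⟨u, v, huv⟩ := hne
    set k := u * v * u⁻¹ * v⁻¹ with hk
    have hkZ : k ∈ Subgroup.center C := by
      rw [← QuotientGroup.eq_one_iff, hk]
      simp only [QuotientGroup.mk_mul, QuotientGroup.mk_inv]
      rw [mul_comm ((u : C ⧸ Subgroup.center C)) (v : C ⧸ Subgroup.center C), mul_inv_cancel_right,
        mul_inv_cancel]
    have hk1 : k ≠ 1 := fun h => huv (mul_inv_eq_iff_eq_mul.1 (mul_inv_eq_one.1 h))
    have hbk : b k = k := by
      obtain ⟨zu, hzu, hu⟩ : ∃ z ∈ Subgroup.center C, b u = u * z := ⟨_, hb' u, by group⟩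
      obtain ⟨zv, hzv, hv⟩ : ∃ z ∈ Subgroup.center C, b v = v * z := ⟨_, hb' v, by group⟩
      have cu := Subgroup.mem_center_iff.1 hzu
      have cv := Subgroup.mem_center_iff.1 hzv
      rw [hk, map_mul, map_mul, map_mul, map_inv, map_inv, hu, hv]
      calc u * zu * (v * zv) * (u * zu)⁻¹ * (v * zv)⁻¹
          = u * (zu * (v * zv)) * zu⁻¹ * u⁻¹ * (v * zv)⁻¹ := by group
        _ = u * v * (zv * u⁻¹) * zv⁻¹ * v⁻¹ := by rw [← cu]; group
        _ = u * v * u⁻¹ * v⁻¹ := by rw [← cv]; group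
    have hZfix : ∀ z ∈ Subgroup.center C, b z = z := by
      intro z hz
      obtain ⟨i, n, hn, rfl⟩ := exists_pow_mul_mem (bot_le : (⊥ : Subgroup C) ≤ Subgroup.center C)
        (by rw [Subgroup.card_bot, mul_one, hZcard]) hkZ (fun h => hk1 (Subgroup.mem_bot.1 h)) hz
      rw [Subgroup.mem_bot.1 hn, mul_one, map_pow, hbk]
    refine Subtype.ext (hCf _ hcop fun x hx => ?_)
    have h2 := congrArg Subtype.val (hZfix _ (hb' ⟨x, hx⟩))
    exact Fusion87.fix_of_step _ hcop x h2 (hpR _)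
  obtain ⟨-, l, m, hxl, hxm, hl1, hspan, hind, hinn, hfixl, -, -, hdec, a, ψ, -, hφl, hφm, hψR, hψg⟩ :=
    exists_lift hp5 hS hF hRn hRc hRr hexpW hWcard.le res hker g hgR
  -- inside `N_S(R)`
  let ι : C →* normalizerIn S R := (Subgroup.inclusion hRN).comp C.subtype
  have hι : Function.Injective ι := (Subgroup.inclusion_injective hRN).comp C.subtype_injective
  have hact : ∀ (n : normalizerIn S R) (c : C),
      n * ι c * n⁻¹ = ι (charHom C ((actHom (F := F) hRS n : F.autGroup R) : MulAut R) c) :=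
    fun n c => Subtype.ext rfl
  have hψι : ∀ c : C, ψ (ι c) = ι (charHom C (a : MulAut R) c) :=
    fun c => Subtype.ext (hψR (c : R) (ι c) rfl)
  set Ec := (Subgroup.zpowers l).comap (QuotientGroup.mk' (Subgroup.center C)) with hEc
  have hEcard : Nat.card Ec = p ^ 2 := by
    have h1 : Ec.index = (Subgroup.zpowers l).index :=
      Subgroup.index_comap_of_surjective _ (QuotientGroup.mk'_surjective _)
    have h2 := Subgroup.card_mul_index (Subgroup.zpowers l)
    rw [Nat.card_zpowers, orderOf_eq_prime (hexpW l) hl1, hWcard, pow_two] at h2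
    have h3 := Subgroup.card_mul_index Ec
    rw [h1, Nat.eq_of_mul_eq_mul_left hp.out.pos h2, hCcard, pow_succ] at h3
    exact Nat.eq_of_mul_eq_mul_right hp.out.pos h3
  have hZEc : Subgroup.center C ≤ Ec := fun c hc => by
    show QuotientGroup.mk' _ c ∈ Subgroup.zpowers l
    rw [QuotientGroup.mk'_apply, (QuotientGroup.eq_one_iff c).2 hc]
    exact one_mem _
  set H := (⊤ : Subgroup C).map ι with hH
  set E := Ec.map ι with hE
  set Z := (Subgroup.center C).map ι with hZ
  haveI : H.Normal := ⟨by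
    rintro _ ⟨c, -, rfl⟩ n
    exact ⟨_, Subgroup.mem_top _, (hact n c).symm⟩⟩
  haveI : Z.Normal := ⟨by
    rintro _ ⟨c, hc, rfl⟩ n
    exact ⟨_, Subgroup.characteristic_iff_le_comap.1 (inferInstance : (Subgroup.center C).Characteristic)
      (charHom C _) hc, (hact n c).symm⟩⟩
  haveI : E.Normal := ⟨by
    rintro _ ⟨c, hc, rfl⟩ n
    refine ⟨_, ?_, (hact n c).symm⟩
    obtain ⟨i, hi⟩ := Subgroup.mem_zpowers_iff.1 (show QuotientGroup.mk' _ c ∈ Subgroup.zpowers l from hc)
    refine Subgroup.mem_zpowers_iff.2 ⟨i, ?_⟩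
    rw [QuotientGroup.mk'_apply, ← hres, ← QuotientGroup.mk'_apply, ← hi, map_zpow, hfixl n]⟩
  have hEH : E ≤ H := Subgroup.map_mono le_top
  have hZE : Z ≤ E := Subgroup.map_mono hZEc
  have hHcard : Nat.card H = p ^ 3 := by
    rw [hH, Subgroup.card_map_of_injective hι, Subgroup.card_top, hCcard]
  have hEcard' : Nat.card E = p ^ 2 := by rw [hE, Subgroup.card_map_of_injective hι, hEcard]
  have hZcard' : Nat.card Z = p := by rw [hZ, Subgroup.card_map_of_injective hι, hZcard]
  have hexp : ∀ h ∈ H, h ^ p = 1 := by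
    rintro _ ⟨c, -, rfl⟩
    rw [← map_pow, show c ^ p = 1 from Subtype.ext (hCexp c c.2), map_one]
  have hG : IsPGroup p (normalizerIn S R) := hS.to_le (normalizerIn_le R)
  have hrk : NoBig p (normalizerIn S R) := noBig_of_le hrank3 (normalizerIn_le R)
  set Y := R.subgroupOf (normalizerIn S R) ⊓ Subgroup.centralizer (H : Set (normalizerIn S R)) with hY
  have hYH : ∀ y ∈ Y, ∀ c : C, ι c * y = y * ι c := fun y hy c => hy.2 _ ⟨c, Subgroup.mem_top _, rfl⟩
  have hZY : Z ≤ Y := by
    rintro _ ⟨c, hc, rfl⟩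
    refine ⟨(c : R).2, Subgroup.mem_centralizer_iff.2 ?_⟩
    rintro _ ⟨d, -, rfl⟩
    rw [← map_mul, ← map_mul, Subgroup.mem_center_iff.1 hc d]
  have hEel : IsElementaryAbelian p E := by
    refine ElemAbelian.of_comm_of_pow (fun u hu v hv => ?_) fun u hu => hexp u (hEH hu)
    exact congrArg Subtype.val (IsPGroup.commutative_of_card_eq_prime_sq hEcard' ⟨u, hu⟩ ⟨v, hv⟩)
  have hΩY : ∀ y ∈ Y, y ^ p = 1 → y ∈ Z := by
    intro y hy hyp
    obtain ⟨c, hc, rfl⟩ := hrk.mem_of_commute hEel hEcard' hyp (fun e he => hy.2 e (hEH he))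
    exact ⟨c, Subgroup.mem_center_iff.2 fun d => hι (by rw [map_mul, map_mul]; exact hYH _ hy d), rfl⟩
  haveI hYcyc : IsCyclic Y := by
    refine CyclicPGroup.isCyclic_of_forall_mem_zpowers (p := p) (by omega) (hG.to_subgroup Y)
      fun u v hu hv hv1 => ?_
    have huZ := hΩY u u.2 (congrArg Subtype.val hu)
    have hvZ := hΩY v v.2 (congrArg Subtype.val hv)
    obtain ⟨i, n, hn, he⟩ := exists_pow_mul_mem (bot_le : (⊥ : Subgroup (normalizerIn S R)) ≤ Z)
      (by rw [Subgroup.card_bot, mul_one, hZcard']) hvZ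
      (fun h => hv1 (Subtype.ext (Subgroup.mem_bot.1 h))) huZ
    rw [Subgroup.mem_bot.1 hn, mul_one] at he
    exact Subgroup.mem_zpowers_iff.2 ⟨i, Subtype.ext (by rw [zpow_natCast, Subgroup.coe_pow, he])⟩
  have hRdec : ∀ n : normalizerIn S R, (n : Ω) ∈ R → ∃ u ∈ H, u⁻¹ * n ∈ Y := by
    intro n hn
    obtain ⟨u, hu, huc⟩ := exists_conj_of_trivial_mod hG hrk hEH hZE hHcard hEcard' hZcard' hexp
      ((MulAut.conj n).toMonoidHom.comp H.subtype) (by
        rintro ⟨_, c, -, rfl⟩
        show n * ι c * n⁻¹ * (ι c)⁻¹ ∈ Z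
        refine ⟨charHom C ((actHom (F := F) hRS n : F.autGroup R) : MulAut R) c * c⁻¹, ?_,
          by rw [map_mul, map_inv, ← hact n c]⟩
        show (_ : C) ∈ Subgroup.center C
        rw [← QuotientGroup.eq_one_iff, QuotientGroup.mk_mul, QuotientGroup.mk_inv, ← hres, hinn n hn,
          MulAut.one_apply, mul_inv_cancel])
    refine ⟨u, hu, ?_, Subgroup.mem_centralizer_iff.2 fun v hv => ?_⟩
    · obtain ⟨c, -, rfl⟩ := hu
      exact R.mul_mem (R.inv_mem (c : R).2) hn
    · have h : n * v * n⁻¹ = u * v * u⁻¹ := huc ⟨v, hv⟩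
      calc v * (u⁻¹ * n) = u⁻¹ * (u * v * u⁻¹) * n := by group
        _ = u⁻¹ * n * v := by rw [← h]; group
  obtain ⟨y₀, hy₀⟩ := IsCyclic.exists_monoid_generator (α := Y)
  have hYgen : ∀ y ∈ Y, ∃ i : ℕ, y = (y₀ : normalizerIn S R) ^ i := fun y hy => by
    obtain ⟨i, hi⟩ := hy₀ ⟨y, hy⟩
    exact ⟨i, (congrArg Subtype.val hi).symm⟩
  have hYR : ∀ n : normalizerIn S R, (n : Ω) ∈ R → Commute n y₀ := by
    intro n hn
    obtain ⟨u, ⟨c, -, rfl⟩, hu⟩ := hRdec n hn
    obtain ⟨i, hi⟩ := hYgen _ hu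
    rw [inv_mul_eq_iff_eq_mul] at hi
    rw [hi]
    exact Commute.mul_left (hYH y₀ y₀.2 c) ((Commute.refl _).pow_left i)
  have hψRset : ∀ n : normalizerIn S R, (n : Ω) ∈ R → (ψ n : Ω) ∈ R := fun n hn => by
    rw [hψR ⟨n, hn⟩ n rfl]; exact ((a : MulAut R) _).2
  have hψY : ∀ y ∈ Y, ψ y ∈ Y := by
    intro y hy
    refine ⟨hψRset y hy.1, Subgroup.mem_centralizer_iff.2 ?_⟩
    rintro _ ⟨c, -, rfl⟩
    have e : ι c = ψ (ι (charHom C ((a⁻¹ : F.autGroup R) : MulAut R) c)) := by
      rw [hψι]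
      congr 1
      refine Subtype.ext ?_
      rw [charHom_apply, charHom_apply, Subgroup.coe_inv, MulAut.apply_inv_self]
    rw [e, ← map_mul, ← map_mul, hYH y hy]
  have hgy : Commute g (y₀ : normalizerIn S R) := by
    obtain ⟨ν, hν⟩ := hYgen _ (hψY _ y₀.2)
    have hgYmem : g * y₀ * g⁻¹ ∈ Y := by
      refine ⟨(Subgroup.mem_normalizer_iff.1 ((inf_le_right : normalizerIn S R ≤ _) g.2) _).1 y₀.2.1,
        Subgroup.mem_centralizer_iff.2 fun v hv => ?_⟩
      have hv' : g⁻¹ * v * g ∈ H := by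
        simpa using (inferInstance : H.Normal).conj_mem v hv g⁻¹
      have h := y₀.2.2 _ hv'
      calc v * (g * y₀ * g⁻¹) = g * (g⁻¹ * v * g * y₀) * g⁻¹ := by group
        _ = g * y₀ * g⁻¹ * v := by rw [h]; group
    obtain ⟨κ, hκ⟩ := hYgen _ hgYmem
    set r := (g ^ 4)⁻¹ * ψ g with hr
    have hψg' : ψ g = g ^ 4 * r := (mul_inv_cancel_left _ _).symm
    have hrR : (r : Ω) ∈ R := hψg
    set u := ψ (y₀ : normalizerIn S R) with hu
    have hru : Commute r u := by rw [hν]; exact (hYR r hrR).pow_right ν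
    have e1 : g ^ 4 * u * (g ^ 4)⁻¹ = u ^ κ := by
      have h := congrArg ψ hκ
      rw [map_mul, map_mul, map_inv, map_pow, hψg'] at h
      rw [← h]
      calc g ^ 4 * u * (g ^ 4)⁻¹ = g ^ 4 * (r * u * r⁻¹) * (g ^ 4)⁻¹ := by
            rw [hru.eq, mul_inv_cancel_right]
        _ = _ := by simp only [hu]; group
    have e2 : g * u * g⁻¹ = u ^ κ := by
      rw [hν, ← conj_pow, hκ, ← pow_mul, ← pow_mul, mul_comm]
    have e3 : Commute (g ^ 3) u := by
      have h : g ^ 4 * u * (g ^ 4)⁻¹ = g * u * g⁻¹ := e1.trans e2.symm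
      have h' : g * (g ^ 3 * u * (g ^ 3)⁻¹) * g⁻¹ = g * u * g⁻¹ := by
        rw [← h]; group
      exact mul_inv_eq_iff_eq_mul.1 (mul_left_cancel (mul_right_cancel h'))
    have hgpow : g ∈ Subgroup.zpowers (g ^ 3) := by
      obtain ⟨k, hk⟩ := hG g
      obtain ⟨j, -, hj⟩ := (Nat.dvd_prime_pow hp.out).1 (orderOf_dvd_of_pow_eq_one hk)
      have hcop : Nat.Coprime 3 (orderOf g) := by
        rw [hj]
        exact ((Nat.coprime_primes Nat.prime_three hp.out).2 (by omega)).pow_right j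
      obtain ⟨b, hb⟩ := exists_pow_eq_self_of_coprime hcop
      exact Subgroup.mem_zpowers_iff.2 ⟨b, by rw [zpow_natCast, hb]⟩
    have e4 : Commute g u := by
      obtain ⟨b, hb⟩ := Subgroup.mem_zpowers_iff.1 hgpow
      rw [← hb]
      exact e3.zpow_left b
    -- `u` generates `Y`
    have hmap : Y.map ψ.toMonoidHom = Y := Subgroup.eq_of_le_of_card_ge
      (by rintro _ ⟨y, hy, rfl⟩; exact hψY y hy)
      (Subgroup.card_map_of_injective ψ.injective).ge
    obtain ⟨w, hw, hwy⟩ := hmap.ge y₀.2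
    obtain ⟨i, rfl⟩ := hYgen w hw
    rw [show (y₀ : normalizerIn S R) = u ^ i by rw [← hwy]; exact map_pow ψ _ i]
    exact e4.pow_right i
  have hYc : Y ≤ Subgroup.center (normalizerIn S R) := by
    intro y hy
    obtain ⟨i, rfl⟩ := hYgen y hy
    refine Subgroup.mem_center_iff.2 fun n => ?_
    obtain ⟨t, ht⟩ := hdec n
    have h1 : Commute ((g ^ t)⁻¹ * n) y₀ := hYR _ ht
    have h2 : Commute (g ^ t * ((g ^ t)⁻¹ * n)) (y₀ : normalizerIn S R) := (hgy.pow_left t).mul_left h1
    rw [mul_inv_cancel_left] at h2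
    exact h2.pow_right i
  obtain ⟨m', rfl⟩ := QuotientGroup.mk_surjective m
  refine no_extension hp5 hG hrk hEH hZE hZY hHcard hEcard' hZcard' hexp hYc g (ι m')
    ⟨m', Subgroup.mem_top _, rfl⟩ ?_ ?_ ?_ (fun n => ?_) ψ ?_ hψY ((p - 1) / 2) ?_ (half_sq_ne_one hp5)
  · intro h
    obtain ⟨c, hc, hce⟩ := h
    obtain rfl : c = m' := hι hce
    obtain ⟨i, hi⟩ := (isOfFinOrder_of_finite l).mem_powers_iff_mem_zpowers.2
      (show QuotientGroup.mk' _ c ∈ Subgroup.zpowers l from hc)
    simp only [QuotientGroup.mk'_apply] at hi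
    have h := hind i (p - 1) (by rw [hi, ← pow_succ', Nat.sub_add_cancel hp.out.one_le, hexpW])
    have h2 := h.2
    rw [ZMod.natCast_eq_zero_iff] at h2
    exact absurd (Nat.le_of_dvd (by omega) h2) (by omega)
  · intro h
    rw [hact g m', ← map_inv, ← map_mul] at h
    obtain ⟨c, hc, hce⟩ := h
    obtain rfl := hι hce
    refine hl1 ?_
    replace hc := (QuotientGroup.eq_one_iff (N := Subgroup.center C) _).2 hc
    rw [QuotientGroup.mk_mul, QuotientGroup.mk_inv, ← hres, hxm, mul_inv_cancel_right] at hc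
    exact hc
  · obtain ⟨u, hu, hun⟩ := hRdec (g ^ p) hgp
    exact ⟨u, hu, _, hun, (mul_inv_cancel_left _ _).symm⟩
  · obtain ⟨t, ht⟩ := hdec n
    obtain ⟨u, hu, hun⟩ := hRdec ((g ^ t)⁻¹ * n) ht
    exact ⟨t, u, hu, _, hun, by group⟩
  · rintro _ ⟨c, hc, rfl⟩
    rw [hψι]
    refine ⟨_, ?_, rfl⟩
    obtain ⟨i, hi⟩ := Subgroup.mem_zpowers_iff.1 (show QuotientGroup.mk' _ c ∈ Subgroup.zpowers l from hc)
    show QuotientGroup.mk' _ _ ∈ Subgroup.zpowers l
    rw [QuotientGroup.mk'_apply, ← hres, ← QuotientGroup.mk'_apply, ← hi, map_zpow, hφl]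
    exact Subgroup.zpow_mem _ (Subgroup.pow_mem _ (Subgroup.mem_zpowers l) _) _
  · rw [hψι, ← map_pow, ← map_inv, ← map_mul]
    refine ⟨_, hZEc ?_, rfl⟩
    rw [← QuotientGroup.eq_one_iff, QuotientGroup.mk_mul, QuotientGroup.mk_inv, QuotientGroup.mk_pow,
      ← hres, hφm, inv_mul_cancel]

end Cfsg.Agent.Lib.RankTwoFusion
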