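import Cfsg.Agent.Lib.PGroup.ElemAbelian
import Cfsg.Agent.Lib.Puig.Basic
import Cfsg.Agent.Lib.CyclicPGroup.Basic

/-!
Finite `p`-groups without elementary abelian subgroups of order `p³`: elementary facts.
-/

set_option autoImplicit false

namespace Cfsg.Agent.Lib.RankTwoFusion

open Cfsg

/-- No elementary abelian subgroup of order more than `p²`. -/
def NoBig (p : ℕ) (G : Type*) [Group G] : Prop :=
  ∀ E : Subgroup G, IsElementaryAbelian p E → Nat.card E ≤ p ^ 2

theorem NoBig.subgroup {p : ℕ} {G : Type*} [Group G] (h : NoBig p G) (H : Subgroup G) :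
    NoBig p H := fun E hE => by
  rw [← Subgroup.card_map_of_injective (K := E) H.subtype_injective]
  exact h _ (ElemAbelian.map hE _)

theorem noBig_of_le {p : ℕ} {Ω : Type*} [Group Ω] {S T : Subgroup Ω}
    (h : ∀ E : Subgroup Ω, E ≤ S → IsElementaryAbelian p E → Nat.card E ≤ p ^ 2) (hT : T ≤ S) :
    NoBig p T := fun E hE => by
  rw [← Subgroup.card_map_of_injective (K := E) T.subtype_injective]
  exact h _ ((Subgroup.map_subtype_le E).trans hT) (ElemAbelian.map hE _)

variable {G : Type*} [Group G] [Finite G] {p : ℕ} [hp : Fact p.Prime]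

/-- An element of order `p` centralising an elementary abelian subgroup of order `p²` lies in it. -/
theorem NoBig.mem_of_commute (hG : NoBig p G) {E : Subgroup G} (hE : IsElementaryAbelian p E)
    (hcard : Nat.card E = p ^ 2) {x : G} (hx : x ^ p = 1) (hc : ∀ e ∈ E, e * x = x * e) : x ∈ E := by
  have h1 : IsElementaryAbelian p (E ⊔ Subgroup.zpowers x) := by
    refine ElemAbelian.sup hE (ElemAbelian.zpowers hx) fun e he => ?_
    refine Subgroup.mem_centralizer_iff.2 fun y hy => ?_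
    obtain ⟨i, rfl⟩ := Subgroup.mem_zpowers_iff.1 hy
    exact ((show Commute e x from hc e he).zpow_right i).symm
  have h2 : E = E ⊔ Subgroup.zpowers x :=
    Subgroup.eq_of_le_of_card_ge le_sup_left (hcard ▸ hG _ h1)
  rw [h2]
  exact Subgroup.mem_sup_right (Subgroup.mem_zpowers x)

/-- Between normal subgroups of index `p` there are only powers of one element. -/
theorem exists_pow_mul_mem {N M : Subgroup G} [N.Normal] (hle : N ≤ M)
    (hc : Nat.card M = p * Nat.card N) {e : G} (he : e ∈ M) (heN : e ∉ N) {m : G} (hm : m ∈ M) :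
    ∃ a : ℕ, ∃ n ∈ N, m = e ^ a * n := by
  have hLM : Subgroup.zpowers e ⊔ N ≤ M := sup_le (Subgroup.zpowers_le.2 he) hle
  obtain ⟨d, hd⟩ := Subgroup.card_dvd_of_le (le_sup_right : N ≤ Subgroup.zpowers e ⊔ N)
  have hdp : d ∣ p := by
    have h := Subgroup.card_dvd_of_le hLM
    rw [hd, hc, mul_comm p] at h
    exact Nat.dvd_of_mul_dvd_mul_left Nat.card_pos h
  have hd1 : d ≠ 1 := by
    intro h
    rw [h, mul_one] at hd
    have : N = Subgroup.zpowers e ⊔ N := Subgroup.eq_of_le_of_card_ge le_sup_right hd.le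
    exact heN (this.symm ▸ Subgroup.mem_sup_left (Subgroup.mem_zpowers e))
  rw [((Nat.dvd_prime hp.out).1 hdp).resolve_left hd1, mul_comm] at hd
  have heq : Subgroup.zpowers e ⊔ N = M := Subgroup.eq_of_le_of_card_ge hLM (by rw [hd, hc])
  rw [← heq, Subgroup.mem_sup_of_normal_right] at hm
  obtain ⟨y, hy, n, hn, rfl⟩ := hm
  obtain ⟨a, rfl⟩ := (isOfFinOrder_of_finite e).mem_powers_iff_mem_zpowers.2 hy
  exact ⟨a, n, hn, rfl⟩

/-- Normal subgroups with index `p` in each other give a central factor. -/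
theorem comm_mem_of_index_prime (hG : IsPGroup p G) {N M : Subgroup G} [N.Normal] [M.Normal]
    (hle : N ≤ M) (hc : Nat.card M = p * Nat.card N) (g : G) {m : G} (hm : m ∈ M) :
    g * m * g⁻¹ * m⁻¹ ∈ N := by
  haveI : (M.map (QuotientGroup.mk' N)).Normal :=
    Subgroup.Normal.map inferInstance _ (QuotientGroup.mk'_surjective N)
  have hne : M.map (QuotientGroup.mk' N) ≠ ⊥ := by
    rw [Ne, Subgroup.map_eq_bot_iff, QuotientGroup.ker_mk']
    intro h
    have := Subgroup.card_le_of_le h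
    rw [hc] at this
    have := Nat.card_pos (α := N)
    have := hp.out.two_le
    nlinarith
  obtain ⟨y, hy, hy1⟩ := Puig.exists_mem_center_of_normal (hG.to_quotient N) _ hne
  obtain ⟨e, he, rfl⟩ := hy.1
  have heN : e ∉ N := fun h => hy1 ((QuotientGroup.eq_one_iff e).mpr h)
  obtain ⟨a, n, hn, rfl⟩ := exists_pow_mul_mem hle hc he heN hm
  rw [← QuotientGroup.eq_one_iff]
  have h1 : ((e ^ a * n : G) : G ⧸ N) = ((e : G ⧸ N)) ^ a := by
    rw [QuotientGroup.mk_mul, (QuotientGroup.eq_one_iff n).2 hn, mul_one, QuotientGroup.mk_pow]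
  have h2 : (g : G ⧸ N) * (e : G ⧸ N) ^ a = (e : G ⧸ N) ^ a * g :=
    Subgroup.mem_center_iff.1 (Subgroup.pow_mem _ hy.2 a) g
  rw [QuotientGroup.mk_mul, QuotientGroup.mk_mul, QuotientGroup.mk_mul, QuotientGroup.mk_inv,
    QuotientGroup.mk_inv, h1, h2]
  group

/-- Collection in a short series. -/
theorem pow_collect {G : Type*} [Group G] {x h d z₁ z₂ : G} (hxh : h * x = x * (h * d))
    (hxd : d * x = x * d * z₁) (hdh : d * h = h * d * z₂)
    (h1c : z₁ ∈ Subgroup.center G) (h2c : z₂ ∈ Subgroup.center G) (n : ℕ) :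
    (x * h) ^ n =
      x ^ n * h ^ n * d ^ n.choose 2 * z₁ ^ n.choose 3 * z₂ ^ (n.choose 2 + 2 * n.choose 3) := by
  have c1 : ∀ (j : ℕ) (u : G), z₁ ^ j * u = u * z₁ ^ j := fun j u =>
    (Subgroup.mem_center_iff.1 (Subgroup.pow_mem _ h1c j) u).symm
  have c2 : ∀ (j : ℕ) (u : G), z₂ ^ j * u = u * z₂ ^ j := fun j u =>
    (Subgroup.mem_center_iff.1 (Subgroup.pow_mem _ h2c j) u).symm
  have hdx : ∀ j : ℕ, d ^ j * x = x * d ^ j * z₁ ^ j := by
    intro j
    induction j with
    | zero => simp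
    | succ j ih =>
      calc d ^ (j + 1) * x = d ^ j * (d * x) := by rw [pow_succ, mul_assoc]
        _ = d ^ j * x * (d * z₁) := by rw [hxd]; simp only [mul_assoc]
        _ = x * d ^ j * (z₁ ^ j * d) * z₁ := by rw [ih]; simp only [mul_assoc]
        _ = x * d ^ j * (d * z₁ ^ j) * z₁ := by rw [c1]
        _ = x * d ^ (j + 1) * z₁ ^ (j + 1) := by simp only [pow_succ, mul_assoc]
  have hdh' : ∀ j : ℕ, d ^ j * h = h * d ^ j * z₂ ^ j := by
    intro j
    induction j with
    | zero => simp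
    | succ j ih =>
      calc d ^ (j + 1) * h = d ^ j * (d * h) := by rw [pow_succ, mul_assoc]
        _ = d ^ j * h * (d * z₂) := by rw [hdh]; simp only [mul_assoc]
        _ = h * d ^ j * (z₂ ^ j * d) * z₂ := by rw [ih]; simp only [mul_assoc]
        _ = h * d ^ j * (d * z₂ ^ j) * z₂ := by rw [c2]
        _ = h * d ^ (j + 1) * z₂ ^ (j + 1) := by simp only [pow_succ, mul_assoc]
  have hhx : ∀ j : ℕ, h ^ j * x = x * h ^ j * d ^ j * z₂ ^ j.choose 2 := by
    intro j
    induction j with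
    | zero => simp
    | succ j ih =>
      have e : (j + 1).choose 2 = j.choose 2 + j := by
        rw [Nat.choose_succ_succ', Nat.choose_one_right, add_comm]
      calc h ^ (j + 1) * x = h ^ j * (h * x) := by rw [pow_succ, mul_assoc]
        _ = h ^ j * x * (h * d) := by rw [hxh]; simp only [mul_assoc]
        _ = x * h ^ j * d ^ j * (z₂ ^ j.choose 2 * (h * d)) := by rw [ih]; simp only [mul_assoc]
        _ = x * h ^ j * (d ^ j * h) * (d * z₂ ^ j.choose 2) := by
            rw [c2]; simp only [mul_assoc]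
        _ = x * h ^ j * h * d ^ j * (z₂ ^ j * d) * z₂ ^ j.choose 2 := by
            rw [hdh']; simp only [mul_assoc]
        _ = x * h ^ j * h * d ^ j * (d * z₂ ^ j) * z₂ ^ j.choose 2 := by rw [c2]
        _ = x * h ^ (j + 1) * d ^ (j + 1) * z₂ ^ (j + 1).choose 2 := by
            rw [e, add_comm (j.choose 2) j, pow_add z₂, pow_succ h, pow_succ d]; simp only [mul_assoc]
  induction n with
  | zero => simp
  | succ n ih =>
    have e2 : (n + 1).choose 2 = n.choose 2 + n := by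
      rw [Nat.choose_succ_succ', Nat.choose_one_right, add_comm]
    have e3 : (n + 1).choose 3 = n.choose 3 + n.choose 2 := by
      rw [Nat.choose_succ_succ', add_comm]
    set a := n.choose 2 with ha
    set b := n.choose 3 with hb
    set c := a + 2 * b with hc
    have cen : ∀ {z : G}, z ∈ Subgroup.center G → ∀ u v : G, u * z * v = u * v * z := fun hz u v => by
      rw [mul_assoc, ← Subgroup.mem_center_iff.1 hz v, mul_assoc]
    have hC : z₁ ^ b * z₂ ^ c ∈ Subgroup.center G :=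
      Subgroup.mul_mem _ (Subgroup.pow_mem _ h1c b) (Subgroup.pow_mem _ h2c c)
    calc (x * h) ^ (n + 1) = x ^ n * h ^ n * d ^ a * (z₁ ^ b * z₂ ^ c) * (x * h) := by
          rw [pow_succ, ih]; simp only [mul_assoc]
      _ = x ^ n * h ^ n * (d ^ a * x) * h * (z₁ ^ b * z₂ ^ c) := by
          rw [cen hC (x ^ n * h ^ n * d ^ a) (x * h)]; simp only [mul_assoc]
      _ = x ^ n * (h ^ n * x) * d ^ a * z₁ ^ a * h * (z₁ ^ b * z₂ ^ c) := by
          rw [hdx]; simp only [mul_assoc]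
      _ = x ^ n * (h ^ n * x) * (d ^ a * h) * (z₁ ^ a * (z₁ ^ b * z₂ ^ c)) := by
          rw [cen (Subgroup.pow_mem _ h1c a) _ h]; simp only [mul_assoc]
      _ = x ^ n * x * h ^ n * d ^ n * z₂ ^ a * (d ^ a * h) * (z₁ ^ a * (z₁ ^ b * z₂ ^ c)) := by
          rw [hhx, ← ha]; simp only [mul_assoc]
      _ = x ^ n * x * h ^ n * (d ^ n * d ^ a * h) * (z₂ ^ a * (z₁ ^ a * (z₁ ^ b * z₂ ^ c))) := by
          rw [cen (Subgroup.pow_mem _ h2c a) _ (d ^ a * h)]; simp only [mul_assoc]
      _ = x ^ (n + 1) * h ^ (n + 1) * d ^ (n + a) *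
            (z₂ ^ (n + a) * (z₂ ^ a * (z₁ ^ a * (z₁ ^ b * z₂ ^ c)))) := by
          rw [← pow_add, hdh', pow_succ, pow_succ]; simp only [mul_assoc]
      _ = x ^ (n + 1) * h ^ (n + 1) * d ^ (n + a) * (z₁ ^ (a + b) * z₂ ^ (n + a + a + c)) := by
          rw [← mul_assoc (z₁ ^ a), ← pow_add z₁, ← mul_assoc (z₂ ^ (n + a)), ← pow_add z₂,
            ← mul_assoc (z₂ ^ (n + a + a)), c2, mul_assoc (z₁ ^ (a + b)), ← pow_add z₂]
      _ = _ := by
          rw [e2, e3, show 2 * (b + a) = 2 * b + 2 * a by ring, hc, ← mul_assoc, add_comm a n,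
            add_comm a b, show n + a + a + (a + 2 * b) = n + a + (2 * b + 2 * a) by ring]

/-- In a normal series `Z ≤ E ≤ H` with central factors and `H` of exponent `p ≥ 5`, multiplying by an
element of `H` does not change the `p`-th power. -/
theorem mul_pow_eq_pow (hp5 : 5 ≤ p) {H E Z : Subgroup G} (hEH : E ≤ H) (hZE : Z ≤ E)
    (hexp : ∀ h ∈ H, h ^ p = 1) (hHE : ∀ g : G, ∀ h ∈ H, g * h * g⁻¹ * h⁻¹ ∈ E)
    (hEZ : ∀ g : G, ∀ e ∈ E, g * e * g⁻¹ * e⁻¹ ∈ Z) (hZc : Z ≤ Subgroup.center G) (x : G) {h : G}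
    (hh : h ∈ H) : (x * h) ^ p = x ^ p := by
  set d := h⁻¹ * x⁻¹ * h * x with hd
  have hdE : d ∈ E := by
    have h0 := hHE x⁻¹ h hh
    have h1 := E.mul_mem (hZE (hEZ h⁻¹ _ h0)) h0
    have e1 : d = h⁻¹ * (x⁻¹ * h * x⁻¹⁻¹ * h⁻¹) * h⁻¹⁻¹ * (x⁻¹ * h * x⁻¹⁻¹ * h⁻¹)⁻¹ *
      (x⁻¹ * h * x⁻¹⁻¹ * h⁻¹) := by rw [hd]; group
    rwa [← e1] at h1
  set z₁ := x⁻¹ * d * x * d⁻¹ with hz1
  set z₂ := h⁻¹ * d * h * d⁻¹ with hz2
  have h1Z : z₁ ∈ Z := by simpa [hz1] using hEZ x⁻¹ d hdE
  have h2Z : z₂ ∈ Z := by simpa [hz2] using hEZ h⁻¹ d hdE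
  have hxh : h * x = x * (h * d) := by rw [hd]; group
  have hxd : d * x = x * d * z₁ := by
    rw [mul_assoc x d z₁, Subgroup.mem_center_iff.1 (hZc h1Z) d, hz1]; group
  have hdh : d * h = h * d * z₂ := by
    rw [mul_assoc h d z₂, Subgroup.mem_center_iff.1 (hZc h2Z) d, hz2]; group
  have hk : ∀ {u : G} {k : ℕ}, u ∈ H → p ∣ k → u ^ k = 1 := by
    rintro u k hu ⟨j, rfl⟩
    rw [pow_mul, hexp u hu, one_pow]
  have hd2 : p ∣ p.choose 2 := hp.out.dvd_choose_self (by norm_num) (by omega)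
  have hd3 : p ∣ p.choose 3 := hp.out.dvd_choose_self (by norm_num) (by omega)
  rw [pow_collect hxh hxd hdh (hZc h1Z) (hZc h2Z), hexp h hh, hk (hEH hdE) hd2,
    hk (hEH (hZE h1Z)) hd3, hk (hEH (hZE h2Z)) (dvd_add hd2 (hd3.mul_left 2))]
  simp

/-- A group of exponent `p` without elementary abelian subgroups of order `p³` has order at most `p³`,
and at most `p²` if it is abelian. -/
theorem card_le_of_exponent (hexp : ∀ x : G, x ^ p = 1) (hG : NoBig p G) :
    Nat.card G ≤ p ^ 3 := by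
  have hPG : IsPGroup p G := fun x => ⟨1, by rw [pow_one]; exact hexp x⟩
  obtain ⟨A, hAn, hAc, hCA⟩ := Puig.exists_abelian_normal_self_centralizing hPG
  have hA : IsElementaryAbelian p A := ⟨hAc, fun a _ => hexp a⟩
  have hA2 : Nat.card A ≤ p ^ 2 := hG A hA
  by_cases hbot : A = ⊥
  · subst hbot
    have : (⊤ : Subgroup G) = ⊥ := by
      rw [← hCA]
      exact (eq_top_iff.2 fun x _ => Subgroup.mem_centralizer_iff.2 fun y hy => by
        rw [Subgroup.mem_bot.1 hy, one_mul, mul_one]).symm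
    rw [← Subgroup.card_top (G := G), this, Subgroup.card_bot]
    exact Nat.one_le_pow _ _ hp.out.pos
  obtain ⟨z, hz, hz1⟩ := Puig.exists_mem_center_of_normal hPG A hbot
  by_cases hAZ : A ≤ Subgroup.center G
  · have : A = ⊤ := by
      rw [eq_top_iff, ← hCA]
      exact fun x _ => Subgroup.mem_centralizer_iff.2 fun y hy =>
        (Subgroup.mem_center_iff.1 (hAZ hy) x).symm
    rw [← Subgroup.card_top (G := G), ← this]
    exact hA2.trans (Nat.pow_le_pow_right hp.out.pos (by norm_num))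
  obtain ⟨b, hb, hbZ⟩ := SetLike.not_le_iff_exists.1 hAZ
  set Z := Subgroup.zpowers z with hZdef
  have hZc : Z ≤ Subgroup.center G := Subgroup.zpowers_le.2 hz.2
  have hZA : Z ≤ A := Subgroup.zpowers_le.2 hz.1
  have hZcard : Nat.card Z = p := by rw [hZdef, Nat.card_zpowers, orderOf_eq_prime (hexp z) hz1]
  haveI : Z.Normal := ⟨fun a ha g => by rwa [Subgroup.mem_center_iff.1 (hZc ha) g, mul_inv_cancel_right]⟩
  have hbnZ : b ∉ Z := fun h => hbZ (hZc h)
  have hAcard : Nat.card A = p * Nat.card Z := by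
    obtain ⟨k, hk⟩ := IsPGroup.iff_card.1 (hPG.to_subgroup A)
    rw [hZcard, ← pow_two]
    refine le_antisymm hA2 ?_
    have hlt : Nat.card Z < Nat.card A := by
      refine lt_of_le_of_ne (Subgroup.card_le_of_le hZA) fun h => hbnZ ?_
      rw [Subgroup.eq_of_le_of_card_ge hZA h.ge]; exact hb
    rw [hk, hZcard] at hlt
    rw [hk]
    refine Nat.pow_le_pow_right hp.out.pos ?_
    by_contra h
    have := Nat.pow_le_pow_right hp.out.pos (show k ≤ 1 by omega)
    rw [pow_one] at this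
    omega
  have hf : ∀ g : G, g * b * g⁻¹ * b⁻¹ ∈ Z := fun g => comm_mem_of_index_prime hPG hZA hAcard g hb
  let f : G →* Z :=
    { toFun := fun g => ⟨_, hf g⟩
      map_one' := Subtype.ext (by simp)
      map_mul' := fun g k => Subtype.ext (by
        have hc := Subgroup.mem_center_iff.1 (hZc (hf k))
        show g * k * b * (g * k)⁻¹ * b⁻¹ = g * b * g⁻¹ * b⁻¹ * (k * b * k⁻¹ * b⁻¹)
        calc g * k * b * (g * k)⁻¹ * b⁻¹
            = g * (k * b * k⁻¹ * b⁻¹) * (b * g⁻¹ * b⁻¹) := by group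
          _ = (k * b * k⁻¹ * b⁻¹) * g * (b * g⁻¹ * b⁻¹) := by rw [hc g]
          _ = (k * b * k⁻¹ * b⁻¹) * (g * b * g⁻¹ * b⁻¹) := by simp only [mul_assoc]
          _ = _ := (hc _).symm) }
  have hker : f.ker = A := by
    refine le_antisymm ?_ ?_
    · intro g hg
      have h1 : g * b * g⁻¹ * b⁻¹ = 1 := congrArg Subtype.val (MonoidHom.mem_ker.1 hg)
      rw [← hCA]
      refine Subgroup.mem_centralizer_iff.2 fun a ha => ?_
      obtain ⟨i, n, hn, rfl⟩ := exists_pow_mul_mem hZA hAcard hb hbnZ ha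
      have hgb : Commute g b := by
        rwa [mul_inv_eq_one, mul_inv_eq_iff_eq_mul] at h1
      exact ((hgb.pow_right i).mul_right (Subgroup.mem_center_iff.1 (hZc hn) g)).symm
    · intro a ha
      refine MonoidHom.mem_ker.2 (Subtype.ext ?_)
      show a * b * a⁻¹ * b⁻¹ = 1
      rw [ElemAbelian.comm hA ha hb]; group
  have h := Subgroup.card_mul_index f.ker
  rw [Subgroup.index_ker, hker] at h
  rw [← h, hAcard, hZcard, show p ^ 3 = p * p * p by ring]
  refine Nat.mul_le_mul_left _ ?_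
  exact hZcard ▸ Subgroup.card_le_card_group f.range

end Cfsg.Agent.Lib.RankTwoFusion
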