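import Cfsg.Agent.Lib.RankTwoFusion.GroupLemmas

/-!
A Heisenberg subgroup of exponent `p` in a finite `p`-group of rank two admits no proper cyclic extension
compatible with a suitable automorphism.
-/

set_option autoImplicit false

namespace Cfsg.Agent.Lib.RankTwoFusion

open Cfsg

variable {G : Type*} [Group G] [Finite G] {p : ℕ} [hp : Fact p.Prime]

/-- For an element of order `p`, exponents are determined modulo `p`. -/
theorem cast_eq_of_pow_eq {u : G} (hu : u ^ p = 1) (hu1 : u ≠ 1) {a b : ℕ} (h : u ^ a = u ^ b) :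
    (a : ZMod p) = b := by
  rw [ZMod.natCast_eq_natCast_iff]
  have := pow_eq_pow_iff_modEq.1 h
  rwa [orderOf_eq_prime hu hu1] at this

theorem pow_eq_one_of_cast_eq_zero {u : G} (hu : u ^ p = 1) {a : ℕ} (h : (a : ZMod p) = 0) :
    u ^ a = 1 := by
  obtain ⟨j, rfl⟩ := (ZMod.natCast_eq_zero_iff a p).1 h
  rw [pow_mul, hu, one_pow]

/-- The obstruction. -/
theorem no_extension (hp5 : 5 ≤ p) (hG : IsPGroup p G) (hrk : NoBig p G) {H E Y Z : Subgroup G}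
    [H.Normal] [E.Normal] [Z.Normal] (hEH : E ≤ H) (hZE : Z ≤ E) (hZY : Z ≤ Y)
    (hHcard : Nat.card H = p ^ 3) (hEcard : Nat.card E = p ^ 2) (hZcard : Nat.card Z = p)
    (hexp : ∀ h ∈ H, h ^ p = 1) (hYc : Y ≤ Subgroup.center G) [IsCyclic Y] (x c : G) (hcH : c ∈ H)
    (hcE : c ∉ E) (hxc : x * c * x⁻¹ * c⁻¹ ∉ Z) (hxp : ∃ h ∈ H, ∃ y ∈ Y, x ^ p = h * y)
    (hdec : ∀ a : G, ∃ n : ℕ, ∃ h ∈ H, ∃ y ∈ Y, a = x ^ n * h * y)
    (ψ : MulAut G) (hψE : ∀ e ∈ E, ψ e ∈ E) (hψY : ∀ y ∈ Y, ψ y ∈ Y) (α : ℕ)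
    (hψc : (c ^ α)⁻¹ * ψ c ∈ E) (hα : (α : ZMod p) ^ 2 ≠ 1) : False := by
  have hp0 : 0 < p := hp.out.pos
  have hEHc : Nat.card H = p * Nat.card E := by rw [hHcard, hEcard]; ring
  have hZEc : Nat.card E = p * Nat.card Z := by rw [hEcard, hZcard]; ring
  have hHE : ∀ g : G, ∀ h ∈ H, g * h * g⁻¹ * h⁻¹ ∈ E := fun g h hh =>
    comm_mem_of_index_prime hG hEH hEHc g hh
  have hEZ : ∀ g : G, ∀ e ∈ E, g * e * g⁻¹ * e⁻¹ ∈ Z := fun g e he =>
    comm_mem_of_index_prime hG hZE hZEc g he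
  have hZc : Z ≤ Subgroup.center G := by
    refine fun n hn => Subgroup.mem_center_iff.2 fun g => ?_
    have h := comm_mem_of_index_prime hG (bot_le : (⊥ : Subgroup G) ≤ Z)
      (by rw [Subgroup.card_bot, mul_one, hZcard]) g hn
    exact mul_inv_eq_iff_eq_mul.1 (mul_inv_eq_one.1 (Subgroup.mem_bot.1 h))
  have cenY : ∀ y ∈ Y, ∀ u : G, u * y = y * u := fun y hy u => Subgroup.mem_center_iff.1 (hYc hy) u
  have cenZ : ∀ y ∈ Z, ∀ u : G, u * y = y * u := fun y hy u => Subgroup.mem_center_iff.1 (hZc hy) u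
  -- basis of `E`
  obtain ⟨e, he, heZ⟩ : ∃ e ∈ E, e ∉ Z := by
    refine SetLike.not_le_iff_exists.1 fun h => ?_
    have := Subgroup.card_le_of_le h
    rw [hZEc, hZcard] at this
    nlinarith
  have hEdec : ∀ v ∈ E, ∃ a : ℕ, ∃ n ∈ Z, v = e ^ a * n := fun v hv =>
    exists_pow_mul_mem hZE hZEc he heZ hv
  have hEel : IsElementaryAbelian p E := by
    refine ElemAbelian.of_comm_of_pow (fun u hu v hv => ?_) fun u hu => hexp u (hEH hu)
    obtain ⟨a, n, hn, rfl⟩ := hEdec u hu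
    obtain ⟨b, m, hm, rfl⟩ := hEdec v hv
    have h1 : Commute (e ^ a) (e ^ b) := (Commute.refl e).pow_pow a b
    exact ((h1.mul_right (cenZ m hm _)).mul_left
      ((show Commute n (e ^ b) from (cenZ n hn _).symm).mul_right (cenZ m hm n))).eq
  set z := e * c * e⁻¹ * c⁻¹ with hz
  have hzZ : z ∈ Z := by
    have := Z.inv_mem (hEZ c e he)
    simpa [hz, mul_assoc] using this
  have hzp : z ^ p = 1 := hexp z (hEH (hZE hzZ))
  have hz1 : z ≠ 1 := by
    intro h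
    have hce : Commute e c := mul_inv_eq_iff_eq_mul.1 (mul_inv_eq_one.1 h)
    refine hcE (hrk.mem_of_commute hEel hEcard (hexp c hcH) fun v hv => ?_)
    obtain ⟨a, n, hn, rfl⟩ := hEdec v hv
    exact ((hce.pow_left a).mul_left (cenZ n hn c).symm).eq
  have hZpow : ∀ n ∈ Z, ∃ a : ℕ, n = z ^ a := by
    intro n hn
    obtain ⟨a, m, hm, rfl⟩ := exists_pow_mul_mem (bot_le : (⊥ : Subgroup G) ≤ Z)
      (by rw [Subgroup.card_bot, mul_one, hZcard]) hzZ (fun h => hz1 (Subgroup.mem_bot.1 h)) hn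
    exact ⟨a, by rw [Subgroup.mem_bot.1 hm, mul_one]⟩
  have hcomm : ∀ a b : ℕ, e ^ a * c ^ b * (e ^ a)⁻¹ = z ^ (a * b) * c ^ b := by
    have h1 : ∀ a : ℕ, e ^ a * c * (e ^ a)⁻¹ = z ^ a * c := by
      intro a
      induction a with
      | zero => simp
      | succ a ih =>
        calc e ^ (a + 1) * c * (e ^ (a + 1))⁻¹ = e * (e ^ a * c * (e ^ a)⁻¹) * e⁻¹ := by
              rw [pow_succ']; simp only [mul_inv_rev, mul_assoc]
          _ = z ^ a * (e * c * e⁻¹) := by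
              rw [ih, ← mul_assoc e, cenZ _ (Z.pow_mem hzZ a) e]; simp only [mul_assoc]
          _ = z ^ (a + 1) * c := by rw [hz, pow_succ]; group
    intro a b
    rw [← conj_pow, h1,
      (show Commute (z ^ a) c from (cenZ _ (Z.pow_mem hzZ a) c).symm).mul_pow, ← pow_mul]
  have hzc : ∀ {i l : ℕ} {u v : G}, u ∈ Y → v ∈ Y → e ^ i * u = e ^ l * v → (i : ZMod p) = l := by
    intro i l u v hu hv h
    have key : ∀ (i : ℕ) (u : G), u ∈ Y → e ^ i * u * c * (e ^ i * u)⁻¹ = z ^ i * c := by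
      intro i u hu
      calc e ^ i * u * c * (e ^ i * u)⁻¹ = e ^ i * (u * c * u⁻¹) * (e ^ i)⁻¹ := by group
        _ = e ^ i * c ^ 1 * (e ^ i)⁻¹ := by rw [pow_one, ← cenY u hu c, mul_inv_cancel_right]
        _ = z ^ i * c := by rw [hcomm, mul_one, pow_one]
    have h1 := key i u hu
    rw [h, key l v hv] at h1
    exact (cast_eq_of_pow_eq hzp hz1 (mul_right_cancel h1)).symm
  -- replace `x` by an element centralising `E`
  obtain ⟨j, hj⟩ := hZpow _ (hEZ x e he)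
  set x₁ := x * c ^ j with hx₁
  have hxe : x₁ * e = e * x₁ := by
    have h1 : x * e = z ^ j * e * x := by rw [← hj]; group
    have h2 : c ^ j * e = (z ^ j)⁻¹ * e * c ^ j := by
      have h := hcomm 1 j
      rw [one_mul, pow_one] at h
      calc c ^ j * e = (z ^ j)⁻¹ * (z ^ j * c ^ j) * e := by group
        _ = (z ^ j)⁻¹ * e * c ^ j := by rw [← h]; group
    calc x₁ * e = x * (z ^ j)⁻¹ * e * c ^ j := by rw [hx₁, mul_assoc x, h2]; simp only [mul_assoc]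
      _ = (z ^ j)⁻¹ * (x * e) * c ^ j := by
          rw [cenZ _ (Z.inv_mem (Z.pow_mem hzZ j)) x]; simp only [mul_assoc]
      _ = e * x₁ := by rw [h1, hx₁]; group
  have hxp1 : x₁ ^ p = x ^ p :=
    mul_pow_eq_pow hp5 hEH hZE hexp hHE hEZ hZc x (H.pow_mem hcH j)
  have hdec1 : ∀ a : G, ∃ n : ℕ, ∃ h ∈ H, ∃ y ∈ Y, a = x₁ ^ n * h * y := by
    intro a
    obtain ⟨n, h, hh, y, hy, rfl⟩ := hdec a
    refine ⟨n, (x₁ ^ n)⁻¹ * x ^ n * h, H.mul_mem ?_ hh, y, hy, by group⟩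
    rw [← QuotientGroup.eq, QuotientGroup.mk_pow, QuotientGroup.mk_pow, hx₁, QuotientGroup.mk_mul,
      (QuotientGroup.eq_one_iff (c ^ j)).2 (H.pow_mem hcH j), mul_one]
  obtain ⟨k, nk, hnk, hk⟩ := hEdec _ (hHE x₁ c hcH)
  have hx1c : x₁ * c * x₁⁻¹ * c⁻¹ = x * c * x⁻¹ * c⁻¹ := by rw [hx₁]; group
  -- modulo `Z`
  let π := QuotientGroup.mk' Z
  have hπ : ∀ u : G, u ∈ Z → π u = 1 := fun u hu => (QuotientGroup.eq_one_iff u).2 hu
  have hπE : ∀ u : G, Commute (π e) (π u) := by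
    intro u
    have h := hπ _ (hEZ u e he)
    simp only [map_mul, map_inv] at h
    exact (mul_inv_eq_iff_eq_mul.1 (mul_inv_eq_one.1 h)).symm
  have hEp : π e ^ p = 1 := by rw [← map_pow, hexp e (hEH he), map_one]
  have hE1 : π e ≠ 1 := fun h => heZ ((QuotientGroup.eq_one_iff e).1 h)
  have hkey : ∀ n b : ℕ, π x₁ ^ n * π c ^ b * (π x₁ ^ n)⁻¹ = π e ^ (n * k * b) * π c ^ b := by
    have h1 : π x₁ * π c * (π x₁)⁻¹ = π e ^ k * π c := by
      have h := congrArg π hk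
      rw [map_mul π _ nk, hπ nk hnk, mul_one, map_pow] at h
      simp only [map_mul, map_inv] at h
      exact mul_inv_eq_iff_eq_mul.1 h
    have h2 : ∀ n : ℕ, π x₁ ^ n * π c * (π x₁ ^ n)⁻¹ = π e ^ (n * k) * π c := by
      intro n
      induction n with
      | zero => simp
      | succ n ih =>
        calc π x₁ ^ (n + 1) * π c * (π x₁ ^ (n + 1))⁻¹
            = π x₁ * (π x₁ ^ n * π c * (π x₁ ^ n)⁻¹) * (π x₁)⁻¹ := by
              rw [pow_succ']; simp only [mul_inv_rev, mul_assoc]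
          _ = π e ^ (n * k) * (π x₁ * π c * (π x₁)⁻¹) := by
              rw [ih, ← mul_assoc (π x₁), ← ((hπE x₁).pow_left (n * k)).eq]; simp only [mul_assoc]
          _ = π e ^ ((n + 1) * k) * π c := by rw [h1, ← mul_assoc, ← pow_add, add_mul, one_mul]
    intro n b
    rw [← conj_pow, h2, ((hπE c).pow_left (n * k)).mul_pow, ← pow_mul]
  have hk0 : (k : ZMod p) ≠ 0 := by
    intro h
    refine hxc ?_
    rw [← hx1c, hk, pow_eq_one_of_cast_eq_zero (hexp e (hEH he)) h, one_mul]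
    exact hnk
  -- the power of `x₁`
  obtain ⟨h₀, hh₀, y₀', hy₀', hxpow⟩ := hxp
  rw [← hxp1] at hxpow
  obtain ⟨s, v, hv, rfl⟩ := exists_pow_mul_mem hEH hEHc hcH hcE hh₀
  obtain ⟨i, ni, hni, rfl⟩ := hEdec v hv
  have hs : c ^ s = 1 := by
    refine pow_eq_one_of_cast_eq_zero (hexp c hcH) ?_
    have hc1 : Commute x₁ (c ^ s * (e ^ i * ni)) := by
      have h1 : Commute x₁ (c ^ s * (e ^ i * ni) * y₀') := hxpow ▸ Commute.self_pow x₁ p
      have h2 : Commute x₁ y₀'⁻¹ := cenY _ (Y.inv_mem hy₀') x₁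
      simpa using h1.mul_right h2
    have h3 := hc1.map π
    rw [map_mul π (c ^ s), map_mul π (e ^ i), hπ ni hni, mul_one, map_pow, map_pow] at h3
    have h4 : Commute (π x₁) (π c ^ s) := by
      simpa using h3.mul_right (((hπE x₁).symm.pow_right i).inv_right)
    have h5 := hkey 1 s
    rw [pow_one, h4.eq, mul_inv_cancel_right] at h5
    have h6 : π e ^ (1 * k * s) = π e ^ 0 := by
      rw [pow_zero]; exact mul_eq_right.1 h5.symm
    have h7 := cast_eq_of_pow_eq hEp hE1 h6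
    push_cast at h7
    rw [one_mul] at h7
    exact (mul_eq_zero.1 h7).resolve_left hk0
  rw [hs, one_mul, mul_assoc] at hxpow
  set y' := ni * y₀' with hy'
  have hy'Y : y' ∈ Y := Y.mul_mem (hZY hni) hy₀'
  -- the automorphism
  obtain ⟨a, na, hna, ha⟩ := hEdec _ hψc
  rw [inv_mul_eq_iff_eq_mul] at ha
  obtain ⟨ε, nε, hnε, hε⟩ := hEdec _ (hψE e he)
  have hψz : ψ z = z ^ (ε * α) := by
    rw [hz, map_mul, map_mul, map_mul, map_inv, map_inv, hε, ha]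
    calc e ^ ε * nε * (c ^ α * (e ^ a * na)) * (e ^ ε * nε)⁻¹ * (c ^ α * (e ^ a * na))⁻¹
        = e ^ ε * (nε * (c ^ α * (e ^ a * na)) * nε⁻¹) * (e ^ ε)⁻¹ *
          (c ^ α * (e ^ a * na))⁻¹ := by group
      _ = e ^ ε * (c ^ α * (e ^ a * na)) * (e ^ ε)⁻¹ * (c ^ α * (e ^ a * na))⁻¹ := by
          rw [← cenZ nε hnε, mul_inv_cancel_right]
      _ = e ^ ε * c ^ α * (e ^ ε)⁻¹ * (e ^ ε * (e ^ a * na) * (e ^ ε)⁻¹) *
          (e ^ a * na)⁻¹ * (c ^ α)⁻¹ := by group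
      _ = z ^ (ε * α) := by
          rw [((Commute.refl e).pow_pow ε a).mul_right (cenZ na hna _) |>.eq, hcomm]
          group
  have hψZ : ∀ n ∈ Z, ψ n ∈ Z := by
    intro n hn
    obtain ⟨b, rfl⟩ := hZpow n hn
    rw [map_pow, hψz]
    exact Z.pow_mem (Z.pow_mem hzZ _) _
  have hεα : (ε : ZMod p) * α ≠ 0 := by
    intro h
    refine hz1 (ψ.injective ?_)
    rw [map_one, hψz, pow_eq_one_of_cast_eq_zero hzp (by push_cast; exact h)]
  obtain ⟨β, h₂, hh₂, y₂, hy₂, hβ⟩ := hdec1 (ψ x₁)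
  have hrel : (ε : ZMod p) = α * β := by
    obtain ⟨s₂, v₂, hv₂, rfl⟩ := exists_pow_mul_mem hEH hEHc hcH hcE hh₂
    obtain ⟨i₂, m₂, hm₂, rfl⟩ := hEdec v₂ hv₂
    have hR : π (ψ (x₁ * c * x₁⁻¹ * c⁻¹)) = π e ^ (ε * k) := by
      rw [hk, map_mul ψ, map_pow ψ, hε, map_mul π, map_pow π, map_mul π, hπ nε hnε, mul_one,
        hπ _ (hψZ nk hnk), mul_one, map_pow π, ← pow_mul]
    set w := π c ^ α * π e ^ a with hw
    have hψc' : π (ψ c) = w := by
      rw [ha, map_mul, map_mul, hπ na hna, mul_one, map_pow, map_pow]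
    have hψx : π (ψ x₁) = π x₁ ^ β * (π c ^ s₂ * π e ^ i₂ * π y₂) := by
      rw [hβ]
      simp only [map_mul, map_pow, hπ m₂ hm₂, mul_one, one_mul, mul_assoc]
    have hcw : Commute (π c ^ s₂ * π e ^ i₂ * π y₂) w := by
      refine Commute.mul_left (Commute.mul_left ?_ ?_) ?_
      · exact ((Commute.refl (π c)).pow_pow s₂ α).mul_right (((hπE c).symm.pow_left s₂).pow_right a)
      · exact (((hπE c).pow_left i₂).pow_right α).mul_right ((Commute.refl (π e)).pow_pow i₂ a)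
      · exact (show Commute (π y₂) (π c ^ α * π e ^ a) by
          rw [← map_pow, ← map_pow, ← map_mul]
          exact ((show Commute (c ^ α * e ^ a) y₂ from cenY y₂ hy₂ _).symm).map π)
    have hL : π (ψ (x₁ * c * x₁⁻¹ * c⁻¹)) = π e ^ (β * k * α) := by
      simp only [map_mul, map_inv, hψx, hψc']
      calc π x₁ ^ β * (π c ^ s₂ * π e ^ i₂ * π y₂) * w *
            (π x₁ ^ β * (π c ^ s₂ * π e ^ i₂ * π y₂))⁻¹ * w⁻¹
          = π x₁ ^ β * ((π c ^ s₂ * π e ^ i₂ * π y₂) * w * (π c ^ s₂ * π e ^ i₂ * π y₂)⁻¹) *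
            (π x₁ ^ β)⁻¹ * w⁻¹ := by group
        _ = π x₁ ^ β * w * (π x₁ ^ β)⁻¹ * w⁻¹ := by rw [hcw.eq, mul_inv_cancel_right]
        _ = π x₁ ^ β * π c ^ α * (π x₁ ^ β)⁻¹ * (π x₁ ^ β * π e ^ a * (π x₁ ^ β)⁻¹) *
            (π e ^ a)⁻¹ * (π c ^ α)⁻¹ := by rw [hw]; group
        _ = π e ^ (β * k * α) := by
            rw [(((hπE x₁).symm.pow_left β).pow_right a).eq, mul_inv_cancel_right, hkey]
            group
    have h := cast_eq_of_pow_eq hEp hE1 (hR.symm.trans hL)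
    push_cast at h
    refine mul_right_cancel₀ hk0 ?_
    rw [h]; ring
  have hβ0 : (β : ZMod p) ≠ 0 := fun h => hεα (by rw [hrel, h, mul_zero, zero_mul])
  -- compare `p`-th powers
  have hpow : (e ^ ε * nε) ^ i * ψ y' = e ^ (i * β) * (y' ^ β * y₂ ^ p) := by
    have h1 : ψ (x₁ ^ p) = (e ^ ε * nε) ^ i * ψ y' := by rw [hxpow, map_mul, map_pow, hε]
    rw [← h1, map_pow, hβ, (show Commute (x₁ ^ β * h₂) y₂ from cenY y₂ hy₂ _).mul_pow,
      mul_pow_eq_pow hp5 hEH hZE hexp hHE hEZ hZc _ hh₂, ← pow_mul, mul_comm β p, pow_mul, hxpow,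
      (show Commute (e ^ i) y' from cenY y' hy'Y _).mul_pow, ← pow_mul, mul_assoc]
  have hi : e ^ i = 1 := by
    refine pow_eq_one_of_cast_eq_zero (hexp e (hEH he)) ?_
    have h1 : e ^ (ε * i) * (nε ^ i * ψ y') = e ^ (i * β) * (y' ^ β * y₂ ^ p) := by
      rw [← hpow, (show Commute (e ^ ε) nε from cenZ nε hnε _).mul_pow, ← pow_mul, mul_assoc]
    have h2 := hzc (Y.mul_mem (Y.pow_mem (hZY hnε) i) (hψY y' hy'Y))
      (Y.mul_mem (Y.pow_mem hy'Y β) (Y.pow_mem hy₂ p)) h1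
    push_cast at h2
    rw [hrel] at h2
    have h3 : (i : ZMod p) * β * ((α : ZMod p) - 1) = 0 := by linear_combination h2
    refine ((mul_eq_zero.1 ((mul_eq_zero.1 h3).resolve_right fun h => hα ?_))).resolve_right hβ0
    rw [sub_eq_zero] at h
    rw [h, one_pow]
  have hxy : x₁ ^ p = y' := by rw [hxpow, hi, one_mul]
  have hpow' : ψ y' = y' ^ β * y₂ ^ p := by
    have h1 : (e ^ ε * nε) ^ i = 1 := by rw [← hε, ← map_pow, hi, map_one]
    rwa [h1, one_mul, pow_mul, hi, one_pow, one_mul] at hpow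
  -- exponents in `Y`
  obtain ⟨y₀, hy₀⟩ := IsCyclic.exists_monoid_generator (α := Y)
  have hYgen : ∀ y ∈ Y, ∃ n : ℕ, y = (y₀ : G) ^ n := by
    intro y hy
    obtain ⟨n, hn⟩ := hy₀ ⟨y, hy⟩
    exact ⟨n, (congrArg Subtype.val hn).symm⟩
  obtain ⟨u, hu⟩ := hYgen y' hy'Y
  obtain ⟨o, ho⟩ := hYgen z (hZY hzZ)
  obtain ⟨ν, hν⟩ := hYgen _ (hψY y₀ y₀.2)
  obtain ⟨w, hw⟩ := hYgen y₂ hy₂
  have hord : p ∣ orderOf (y₀ : G) := by
    obtain ⟨m, hm⟩ := hG (y₀ : G)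
    obtain ⟨m', -, hm'⟩ := (Nat.dvd_prime_pow hp.out).1 (orderOf_dvd_of_pow_eq_one hm)
    rcases Nat.eq_zero_or_pos m' with rfl | h
    · rw [pow_zero, orderOf_eq_one_iff] at hm'
      exact absurd (by rw [ho, hm', one_pow]) hz1
    · exact hm' ▸ dvd_pow_self p h.ne'
  have hν' : (ν : ZMod p) = ε * α := by
    have h1 : z ^ ν = z ^ (ε * α) := by
      rw [← hψz, ho, map_pow, hν, ← pow_mul, ← pow_mul, mul_comm]
    have := cast_eq_of_pow_eq hzp hz1 h1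
    push_cast at this
    exact this
  have hu0 : (u : ZMod p) = 0 := by
    have h1 : (y₀ : G) ^ (ν * u) = (y₀ : G) ^ (u * β + w * p) := by
      rw [pow_mul, ← hν, ← map_pow, ← hu, hpow', pow_add, pow_mul, pow_mul, ← hu, ← hw]
    have h2 := Nat.ModEq.of_dvd hord (pow_eq_pow_iff_modEq.1 h1)
    rw [← ZMod.natCast_eq_natCast_iff] at h2
    push_cast at h2
    rw [ZMod.natCast_self, mul_zero, add_zero, hν', hrel] at h2
    have h3 : (u : ZMod p) * β * ((α : ZMod p) ^ 2 - 1) = 0 := by linear_combination h2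
    exact (mul_eq_zero.1 ((mul_eq_zero.1 h3).resolve_right fun h =>
      hα (sub_eq_zero.1 h))).resolve_right hβ0
  obtain ⟨u', rfl⟩ := (ZMod.natCast_eq_zero_iff u p).1 hu0
  set t := (y₀ : G) ^ u' with ht
  have htY : t ∈ Y := Y.pow_mem y₀.2 u'
  have hx'p : (x₁ * t⁻¹) ^ p = 1 := by
    rw [(show Commute x₁ t⁻¹ from cenY _ (Y.inv_mem htY) x₁).mul_pow, inv_pow, ht, ← pow_mul,
      mul_comm u' p, ← hu, hxy, mul_inv_cancel]
  have hmem : x₁ * t⁻¹ ∈ E := by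
    refine hrk.mem_of_commute hEel hEcard hx'p fun v hv => ?_
    obtain ⟨b, n, hn, rfl⟩ := hEdec v hv
    exact ((((show Commute e x₁ from hxe.symm).mul_right (cenY _ (Y.inv_mem htY) e)).pow_left b).mul_left
      (cenZ n hn _).symm).eq
  refine hxc ?_
  have h := Z.inv_mem (hEZ c _ hmem)
  have e1 : (c * (x₁ * t⁻¹) * c⁻¹ * (x₁ * t⁻¹)⁻¹)⁻¹ = x * c * x⁻¹ * c⁻¹ := by
    calc _ = x₁ * (t⁻¹ * c) * t * x₁⁻¹ * c⁻¹ := by group
      _ = x₁ * c * x₁⁻¹ * c⁻¹ := by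
          rw [← cenY _ (Y.inv_mem htY) c]; group
      _ = _ := hx1c
  rwa [e1] at h

end Cfsg.Agent.Lib.RankTwoFusion
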