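import Cfsg.Agent.Lib.RankTwoFusion.Plane

/-!
An outer `p`-automorphism of a centric radical subgroup acting on a plane: what saturation gives.
-/

set_option autoImplicit false

namespace Cfsg.Agent.Lib.RankTwoFusion

open Cfsg Cfsg.FusionSystem Cfsg.Agent.Lib.Fusion

variable {Ω : Type*} [Group Ω] {S : Subgroup Ω} {F : FusionSystem S} {p : ℕ} {R : Subgroup Ω}

/-- The automorphisms of `R` induced by `N_S(R)`. -/
def actHom (hR : R ≤ S) : normalizerIn S R →* F.autGroup R :=
  ((Subgroup.normalizerMonoidHom R).comp (Subgroup.inclusion inf_le_right)).codRestrict (F.autGroup R)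
    fun h => autInducedBy_le_autGroup hR
      (mem_autInducedBy_normalizer.2 ⟨h, (inf_le_right : normalizerIn S R ≤ _) h.2,
        (inf_le_left : normalizerIn S R ≤ _) h.2, rfl⟩)

theorem actHom_apply (hR : R ≤ S) (h : normalizerIn S R) (r : R) :
    ((((actHom hR h : F.autGroup R) : MulAut R) r : R) : Ω) = (h : Ω) * r * (h : Ω)⁻¹ := rfl

/-- Linear maps agreeing on a basis. -/
theorem aut_ext_span {W : Type*} [CommGroup W] {l m : W} (hspan : ∀ w, ∃ i j : ℕ, w = l ^ i * m ^ j)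
    {α β : MulAut W} (hl : α l = β l) (hm : α m = β m) : α = β := by
  refine MulEquiv.ext fun w => ?_
  obtain ⟨i, j, rfl⟩ := hspan w
  rw [map_mul, map_mul, map_pow, map_pow, map_pow, map_pow, hl, hm]

variable [hp : Fact p.Prime] [Finite S]

/-- The consequences of an element of `N_S(R)` outside `R` acting on a plane. -/
theorem exists_lift (hp5 : 5 ≤ p) (hS : IsPGroup p S) (hF : F.IsSaturated p)
    (hRn : F.IsFullyNormalized R) (hRc : F.IsCentric R) (hRr : F.IsRadical p R)
    {W : Type*} [CommGroup W] [Finite W] (hexp : ∀ w : W, w ^ p = 1) (hcard : Nat.card W ≤ p ^ 2)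
    (res : F.autGroup R →* MulAut W)
    (hker : ∀ a, res a = 1 → (orderOf a).Coprime p → a = 1)
    (g : normalizerIn S R) (hgR : (g : Ω) ∉ R) :
    Nat.card W = p ^ 2 ∧ ∃ l m : W, res (actHom hRn.1 g) l = l ∧ res (actHom hRn.1 g) m = l * m ∧
      l ≠ 1 ∧ (∀ w, ∃ i j : ℕ, w = l ^ i * m ^ j) ∧
      (∀ i j : ℕ, l ^ i * m ^ j = 1 → (i : ZMod p) = 0 ∧ (j : ZMod p) = 0) ∧
      (∀ h : normalizerIn S R, (h : Ω) ∈ R → res (actHom hRn.1 h) = 1) ∧
      (∀ h : normalizerIn S R, res (actHom hRn.1 h) l = l) ∧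
      (∃ a : F.autGroup R, ∀ w, res a w = w⁻¹) ∧
      (∀ I : Subgroup W, I ≠ ⊥ → (∀ (a : F.autGroup R), ∀ w ∈ I, res a w ∈ I) → I = ⊤) ∧
      (∀ h : normalizerIn S R, ∃ t : ℕ, ((g : Ω) ^ t)⁻¹ * (h : Ω) ∈ R) ∧
      ∃ a : F.autGroup R, ∃ ψ ∈ F.autGroup (normalizerIn S R),
        res a l = l ^ (p - 2) ∧ res a m = m ^ ((p - 1) / 2) ∧
        (∀ (r : R) (n : normalizerIn S R), (n : Ω) = r → (ψ n : Ω) = ((a : MulAut R) r : Ω)) ∧
        ((g : Ω) ^ 4)⁻¹ * (ψ g : Ω) ∈ R := by
  classical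
  have hRS := hRn.1
  haveI : Finite R := finite_of_le hRS
  haveI := finite_mulAut (S := S) hRS
  haveI := finite_normalizerIn (S := S) R
  haveI : Finite (MulAut W) :=
    Finite.of_injective (fun a : MulAut W => (a : W → W)) DFunLike.coe_injective
  have hRN : R ≤ normalizerIn S R := le_normalizerIn hRS
  have hKp : IsPGroup p res.ker := Fusion87.isPGroup_of_coprime_trivial fun a ha => by
    rw [← Subgroup.orderOf_coe] at ha
    exact Subtype.ext (hker a (MonoidHom.mem_ker.1 a.2) ha)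
  have hmemR : ∀ h : normalizerIn S R, res (actHom hRS h) = 1 → (h : Ω) ∈ R := fun h hh =>
    Fusion87.mem_of_radical hRc hRr res.ker hKp ((inf_le_left : normalizerIn S R ≤ _) h.2)
      ((inf_le_right : normalizerIn S R ≤ _) h.2) fun a ha => by
        obtain rfl : a = actHom hRS h := Subtype.ext (by rw [ha]; rfl)
        exact MonoidHom.mem_ker.2 hh
  set A := res.range with hA
  set cg : F.autGroup R := actHom hRS g with hcg
  obtain ⟨k, hk⟩ := (hS.to_le (normalizerIn_le R)) g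
  have hxk : res.rangeRestrict cg ^ p ^ k = 1 := by rw [hcg, ← map_pow, ← map_pow, hk, map_one, map_one]
  have hnot : res.rangeRestrict cg ∉ pCore p A := by
    intro h
    refine hgR ?_
    let K : Subgroup (F.autGroup R) := (pCore p A).comap res.rangeRestrict
    have hK : IsPGroup p K := by
      refine Fusion87.isPGroup_of_coprime_trivial fun a ha => ?_
      rw [← Subgroup.orderOf_coe] at ha
      refine Subtype.ext (hker a ?_ ha)
      have h1 : orderOf (⟨_, a.2⟩ : pCore p A) ∣ orderOf (a : F.autGroup R) := by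
        rw [← Subgroup.orderOf_coe]
        exact orderOf_map_dvd res.rangeRestrict (a : F.autGroup R)
      obtain ⟨j, hj⟩ := PSolvable.pCore_isPGroup (p := p) (⟨_, a.2⟩ : pCore p A)
      have h2 : orderOf (⟨_, a.2⟩ : pCore p A) = 1 := Nat.eq_one_of_dvd_coprimes
        (Nat.Coprime.pow_right j ha) h1 (orderOf_dvd_of_pow_eq_one hj)
      exact congrArg (fun t : pCore p A => ((t : A) : MulAut W)) (orderOf_eq_one_iff.1 h2)
    exact Fusion87.mem_of_radical hRc hRr K hK ((inf_le_left : normalizerIn S R ≤ _) g.2)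
      ((inf_le_right : normalizerIn S R ≤ _) g.2) fun a ha => by
        obtain rfl : a = cg := Subtype.ext (by rw [ha]; rfl)
        exact h
  obtain ⟨hW, l, m, hxl, hxm, hl1, hspan, hind, ⟨τ, ⟨aτ, hτ⟩, hτinv⟩, ⟨φ, ⟨a, ha⟩, hφl, hφm⟩, hirr,
    hcore, hP⟩ := exists_plane_data hp5 hexp hcard (res.rangeRestrict cg) hxk hnot
  rw [← ha] at hφl hφm
  have hxl' : res cg l = l := hxl
  have hxm' : res cg m = l * m := hxm
  have hPN : IsPGroup p (((⊤ : Subgroup (normalizerIn S R)).map (actHom (F := F) hRS)).map res) :=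
    ((IsPGroup.of_surjective (hS.to_le (normalizerIn_le R)) (MonoidHom.id _)
      Function.surjective_id).to_subgroup ⊤).map _ |>.map _
  have hUN : ∀ h : normalizerIn S R, res (actHom hRS h) l = l ∧
      ∃ t : ℕ, res (actHom hRS h) m = l ^ t * m := fun h =>
    hP _ hPN ⟨cg, ⟨g, Subgroup.mem_top _, rfl⟩, rfl⟩ _ ⟨_, ⟨h, Subgroup.mem_top _, rfl⟩, rfl⟩
  have hxpow : ∀ t : ℕ, res cg ^ t = 1 → (t : ZMod p) = 0 := by
    intro t ht
    have h := Fusion.SmallOmega.iter_apply (α := res cg) (w := m) (d := l)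
      (by rw [hxm', mul_comm]) hxl' t
    rw [ht, MulAut.one_apply, left_eq_mul] at h
    exact (hind t 0 (by rw [h, pow_zero, mul_one])).1
  have hxt : ∀ t : ℕ, (res cg ^ t) l = l ∧ (res cg ^ t) m = l ^ t * m := by
    intro t
    have h2 := Fusion.SmallOmega.iter_apply (α := res cg) (w := m) (d := l)
      (by rw [hxm', mul_comm]) hxl' t
    refine ⟨?_, by rw [h2, mul_comm]⟩
    have h1 := Fusion.SmallOmega.iter_apply (α := res cg) (w := l) (d := 1)
      (by rw [hxl', mul_one]) (map_one _) t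
    rwa [one_pow, mul_one] at h1
  have hdec : ∀ h : normalizerIn S R, ∃ t : ℕ, ((g : Ω) ^ t)⁻¹ * (h : Ω) ∈ R := by
    intro h
    obtain ⟨hl, t, hm⟩ := hUN h
    refine ⟨t, ?_⟩
    have h1 : res (actHom hRS h) = res cg ^ t :=
      aut_ext_span hspan (hl.trans (hxt t).1.symm) (hm.trans (hxt t).2.symm)
    exact hmemR ((g ^ t)⁻¹ * h) (by rw [map_mul, map_inv, map_mul, map_inv, map_pow, map_pow, ← hcg,
      ← h1, inv_mul_cancel])
  -- `Inn R` acts trivially
  have hcoreW : ((pCore p (F.autGroup R)).map res) = ⊥ := by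
    refine hcore _ ?_ ((PSolvable.pCore_isPGroup (p := p) (G := F.autGroup R)).map _) ?_
    · rintro _ ⟨b, -, rfl⟩; exact ⟨b, rfl⟩
    · rintro _ ⟨c, rfl⟩ _ ⟨b, hb, rfl⟩
      exact ⟨c * b * c⁻¹, (inferInstance : (pCore p (F.autGroup R)).Normal).conj_mem b hb c,
        by simp only [map_mul, map_inv]⟩
  have hinn : ∀ h : normalizerIn S R, (h : Ω) ∈ R → res (actHom hRS h) = 1 := by
    intro h hh
    have h1 : ((actHom (F := F) hRS h : F.autGroup R) : MulAut R) ∈ Inn R :=
      ⟨⟨h, hh⟩, MulEquiv.ext fun r => Subtype.ext rfl⟩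
    rw [← hRr.2] at h1
    obtain ⟨b, hb, hbe⟩ := h1
    obtain rfl : b = actHom hRS h := Subtype.ext hbe
    have h2 : res (actHom hRS h) ∈ (pCore p (F.autGroup R)).map res := ⟨_, hb, rfl⟩
    rwa [hcoreW, Subgroup.mem_bot] at h2
  -- the Sylow subgroup
  let U : Subgroup (F.autGroup R) :=
    { carrier := {b | res b l = l ∧ ∃ t : ℕ, res b m = l ^ t * m}
      one_mem' := ⟨by rw [map_one, MulAut.one_apply], 0, by rw [map_one, MulAut.one_apply, pow_zero, one_mul]⟩
      mul_mem' := by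
        rintro b c ⟨hb, t, hb'⟩ ⟨hc, s, hc'⟩
        refine ⟨by rw [map_mul, MulAut.mul_apply, hc, hb], s + t, ?_⟩
        rw [map_mul, MulAut.mul_apply, hc', map_mul, map_pow, hb, hb', pow_add, mul_assoc]
      inv_mem' := by
        rintro b ⟨hb, t, hb'⟩
        have h1 : res b⁻¹ l = l := by
          conv_lhs => rw [← hb]
          rw [map_inv, MulAut.inv_apply_self]
        refine ⟨h1, (p - 1) * t, (res b).injective ?_⟩
        rw [map_inv, MulAut.apply_inv_self, map_mul, map_pow, hb, hb', ← mul_assoc, ← pow_add,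
          ← Nat.succ_mul, Nat.succ_eq_add_one, Nat.sub_add_cancel hp.out.one_le, pow_mul, hexp,
          one_pow, one_mul] }
  have hUp : IsPGroup p U := by
    intro b
    obtain ⟨hb, t, hb'⟩ := b.2
    have hbl : ∀ j : ℕ, (res (b : F.autGroup R) ^ j) l = l ∧
        (res (b : F.autGroup R) ^ j) m = l ^ (t * j) * m := by
      intro j
      induction j with
      | zero => simp
      | succ j ih =>
        rw [pow_succ', MulAut.mul_apply, MulAut.mul_apply, ih.1, ih.2, map_mul, map_pow, hb, hb',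
          ← mul_assoc, ← pow_add]
        exact ⟨rfl, by rw [mul_add, mul_one]⟩
    have h1 : res ((b : F.autGroup R) ^ p) = 1 := by
      rw [map_pow]
      refine aut_ext_span hspan ((hbl p).1.trans rfl) ?_
      rw [(hbl p).2, mul_comm t, pow_mul, hexp, one_pow, one_mul, MulAut.one_apply]
    obtain ⟨j, hj⟩ := hKp ⟨(b : F.autGroup R) ^ p, MonoidHom.mem_ker.2 h1⟩
    refine ⟨j + 1, Subtype.ext ?_⟩
    rw [pow_succ', pow_mul, Subgroup.coe_pow, Subgroup.coe_pow]
    exact congrArg Subtype.val hj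
  obtain ⟨-, P, hPeq⟩ := isFullyAutomized_of_isFullyNormalized hS hF hRn
  have hPU : (P : Subgroup (F.autGroup R)) = U := by
    refine (P.is_maximal' hUp fun b hb => ?_).symm
    rw [hPeq] at hb
    obtain ⟨h, hhN, hhS, hbh⟩ := mem_autInducedBy_normalizer.1 (Subgroup.mem_subgroupOf.1 hb)
    obtain rfl : b = actHom hRS ⟨h, hhS, hhN⟩ := Subtype.ext (by rw [hbh]; rfl)
    exact hUN _
  -- conjugating by `a`
  have h24 : ((p : ℕ) - 2 : ℕ) = p - 2 := rfl
  have h2u : ((p - 2 : ℕ) : ZMod p) ≠ 0 := by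
    rw [Ne, ZMod.natCast_eq_zero_iff]
    exact Nat.not_dvd_of_pos_of_lt (by omega) (by omega)
  have hsu : (((p - 1) / 2 : ℕ) : ZMod p) ≠ 0 := by
    rw [Ne, ZMod.natCast_eq_zero_iff]
    exact Nat.not_dvd_of_pos_of_lt (by omega) (by omega)
  have hconj : ∀ (b : F.autGroup R) (t : ℕ), res b l = l → res b m = l ^ t * m →
      res (a * b * a⁻¹) l = l ∧ res (a * b * a⁻¹) m = l ^ (4 * t) * m := by
    intro b t hbl hbm
    have e1 : res a⁻¹ l = l ^ (((p - 2 : ℕ) : ZMod p)⁻¹).val := by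
      refine (res a).injective ?_
      rw [map_inv, MulAut.apply_inv_self, map_pow, hφl, ← pow_mul]
      conv_lhs => rw [← pow_one l]
      refine pow_congr hexp l ?_
      push_cast
      rw [ZMod.natCast_val, ZMod.cast_id, mul_inv_cancel₀ h2u]
    have e2 : res a⁻¹ m = m ^ ((((p - 1) / 2 : ℕ) : ZMod p)⁻¹).val := by
      refine (res a).injective ?_
      rw [map_inv, MulAut.apply_inv_self, map_pow, hφm, ← pow_mul]
      conv_lhs => rw [← pow_one m]
      refine pow_congr hexp m ?_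
      push_cast
      rw [ZMod.natCast_val, ZMod.cast_id, mul_inv_cancel₀ hsu]
    simp only [map_mul, MulAut.mul_apply]
    refine ⟨?_, ?_⟩
    · rw [e1, map_pow (res b), hbl, ← e1, map_inv, MulAut.apply_inv_self]
    · rw [e2, map_pow (res b), hbm, mul_pow, map_mul, ← e2, map_inv, MulAut.apply_inv_self, map_pow,
        map_pow, hφl, ← pow_mul, ← pow_mul]
      congr 1
      refine pow_congr hexp l ?_
      have h2 : (((p - 1) / 2 : ℕ) : ZMod p) * 2 = -1 := by
        have h : (p - 1) / 2 * 2 = p - 1 := Nat.div_mul_cancel (hp.out.even_sub_one (by omega)).two_dvd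
        have h' := congrArg (fun n : ℕ => (n : ZMod p)) h
        simp only [Nat.cast_mul, Nat.cast_sub hp.out.one_le, ZMod.natCast_self] at h'
        push_cast at h'
        rw [h']; ring
      have h3 : ((p - 2 : ℕ) : ZMod p) = -2 := by
        rw [Nat.cast_sub hp.out.two_le, ZMod.natCast_self]; push_cast; ring
      have h4 : ((((p - 1) / 2 : ℕ) : ZMod p))⁻¹ = -2 :=
        inv_eq_of_mul_eq_one_right (by rw [mul_neg, h2, neg_neg])
      push_cast
      rw [ZMod.natCast_val, ZMod.cast_id, h3, h4]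
      ring
  -- extension
  set α : R →* Ω := autHom (a : MulAut R) with hα
  have hαmem : α ∈ F.Hom R := autGroup_hom_mem hRS a.2
  have hiso : isoOnto α (F.injective_of_mem hαmem) (range_autHom _) = (a : MulAut R) := by
    refine MulEquiv.ext fun r => Subtype.ext ?_
    rw [isoOnto_apply]
    rfl
  have hNext : normalizerIn S R ≤ extender S R α := fun h hh => by
    refine mem_extender_of_transport (F.injective_of_mem hαmem) (range_autHom _) hh.1 hh.2 ?_
    rw [hiso]
    have h1 : a * actHom hRS ⟨h, hh⟩ * a⁻¹ ∈ U := by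
      obtain ⟨hl, t, hm⟩ := hUN ⟨h, hh⟩
      exact ⟨(hconj _ t hl hm).1, 4 * t, (hconj _ t hl hm).2⟩
    rw [← hPU, hPeq, Subgroup.mem_subgroupOf] at h1
    exact h1
  obtain ⟨ψ₁, hψ₁, hag⟩ := (isReceptive_of_isFullyNormalized hS hF hRn).2 R α hαmem (range_autHom _)
  have himg : imgSub (ψ₁.comp (Subgroup.inclusion hNext)) R = R := by
    rw [imgSub_of_agree hRN (φ := α) fun x hR hN => hag x hR (hNext hN), range_autHom]
  have hψN := restrict_mem hψ₁ hNext
  obtain ⟨ψ, hψ, hψv⟩ := exists_aut_of_hom hψN fun x => by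
    have := apply_mem_normalizerIn (P := R) hψN x ((inf_le_right : normalizerIn S R ≤ _) x.2)
    rwa [himg] at this
  have hψR : ∀ (r : R) (n : normalizerIn S R), (n : Ω) = r → (ψ n : Ω) = ((a : MulAut R) r : Ω) := by
    intro r n hn
    rw [hψv]
    have e : (Subgroup.inclusion hNext n : extender S R α) = ⟨r, hn ▸ hNext n.2⟩ := Subtype.ext hn
    show ψ₁ (Subgroup.inclusion hNext n) = _
    rw [e, hag r r.2]
    rfl
  have hψg : actHom hRS (ψ g) = a * cg * a⁻¹ := by
    refine Subtype.ext (MulEquiv.ext fun r => Subtype.ext ?_)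
    rw [Subgroup.coe_mul, Subgroup.coe_mul, Subgroup.coe_inv, MulAut.mul_apply, MulAut.mul_apply]
    set r₀ := (a : MulAut R)⁻¹ r with hr₀
    have hr : (a : MulAut R) r₀ = r := MulAut.apply_inv_self _ _ _
    let n₀ : normalizerIn S R := ⟨(r₀ : Ω), hRN r₀.2⟩
    have h1 := hψR ((cg : MulAut R) r₀) (g * n₀ * g⁻¹) rfl
    have h2 := hψR r₀ n₀ rfl
    rw [hr] at h2
    rw [map_mul, map_mul, map_inv, Subgroup.coe_mul, Subgroup.coe_mul, Subgroup.coe_inv, h2] at h1
    exact h1
  refine ⟨hW, l, m, hxl', hxm', hl1, hspan, hind, hinn, fun h => (hUN h).1, ⟨aτ, fun w => by rw [hτ]; exact hτinv w⟩,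
    fun I hI hinv => hirr I hI (by rintro _ ⟨b, rfl⟩ w hw; exact hinv b w hw), hdec, a, ψ, hψ, hφl, hφm,
    hψR, ?_⟩
  refine hmemR ((g ^ 4)⁻¹ * ψ g) ?_
  rw [map_mul, map_inv, map_mul, map_inv, map_pow, map_pow, hψg, ← hcg]
  refine inv_mul_eq_one.2 (aut_ext_span hspan ?_ ?_).symm
  · rw [(hconj cg 1 hxl' (by rw [pow_one]; exact hxm')).1, (hxt 4).1]
  · rw [(hconj cg 1 hxl' (by rw [pow_one]; exact hxm')).2, (hxt 4).2, mul_one]

end Cfsg.Agent.Lib.RankTwoFusion
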