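import Cfsg.Agent.Lib.Fusion.SmallOmega
import Cfsg.Agent.Lib.RankTwoFusion.Key

/-!
Automorphism groups of a plane with a `p`-element outside `O_p`: they contain two transvection groups.
-/

set_option autoImplicit false

namespace Cfsg.Agent.Lib.RankTwoFusion

open Cfsg
open Cfsg.Agent.Lib.Fusion.SmallOmega (delta delta_apply mem_ker_delta iter_apply eq_zpowers_of_card_prime
  exists_fixed_ne_one)

variable {W : Type*} [CommGroup W] [Finite W] {p : ℕ} [hp : Fact p.Prime]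

theorem pow_congr (hexp : ∀ w : W, w ^ p = 1) (w : W) {i j : ℕ} (h : (i : ZMod p) = j) :
    w ^ i = w ^ j := by
  rw [pow_eq_pow_mod i (hexp w), pow_eq_pow_mod j (hexp w), (ZMod.natCast_eq_natCast_iff' i j p).1 h]

/-- A `p`-element outside `O_p(A)` acts as a transvection, and `A` has an opposite one. -/
theorem exists_transvections (hexp : ∀ w : W, w ^ p = 1) (hcard : Nat.card W ≤ p ^ 2)
    {A : Subgroup (MulAut W)} (x : A) {k : ℕ} (hx : x ^ p ^ k = 1) (hnot : x ∉ pCore p A) :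
    Nat.card W = p ^ 2 ∧ ∃ l m : W, (x : MulAut W) l = l ∧ (x : MulAut W) m = l * m ∧ l ≠ 1 ∧
      (∀ w, ∃ i j : ℕ, w = l ^ i * m ^ j) ∧
      (∀ i j : ℕ, l ^ i * m ^ j = 1 → (i : ZMod p) = 0 ∧ (j : ZMod p) = 0) ∧
      ∃ y ∈ A, y m = m ∧ y l = l * m := by
  classical
  haveI : Finite (MulAut W) := Finite.of_injective (fun a : MulAut W => (a : W → W)) DFunLike.coe_injective
  have hx1 : x ≠ 1 := fun h => hnot (h ▸ one_mem _)
  have hxne : ∃ w, (x : MulAut W) w ≠ w := by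
    by_contra! h
    exact hx1 (Subtype.ext (MulEquiv.ext h))
  obtain ⟨w₀, hw₀⟩ := hxne
  haveI : Nontrivial W := ⟨⟨_, _, hw₀⟩⟩
  have hWp : IsPGroup p W := fun w => ⟨1, by rw [pow_one]; exact hexp w⟩
  have hxk : (x : MulAut W) ^ p ^ k = 1 := congrArg Subtype.val hx
  set L := (delta (x : MulAut W)).ker with hLdef
  obtain ⟨l₀, hl₀, hl₀x⟩ := exists_fixed_ne_one hWp _ hxk
  -- the orders
  obtain ⟨a, ha⟩ := IsPGroup.iff_card.1 hWp
  have ha2 : a ≤ 2 := (pow_le_pow_iff_right₀ hp.out.one_lt).1 (ha ▸ hcard)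
  obtain ⟨b, hb⟩ := IsPGroup.iff_card.1 (hWp.to_subgroup L)
  have hb0 : 0 < b := by
    by_contra h
    rw [Nat.eq_zero_of_not_pos h, pow_zero, Subgroup.card_eq_one] at hb
    exact hl₀ (Subgroup.mem_bot.1 (hb ▸ mem_ker_delta.2 hl₀x))
  have hba : b < a := by
    by_contra h
    have h1 : Nat.card W ≤ Nat.card L := by rw [ha, hb]; exact Nat.pow_le_pow_right hp.out.pos (by omega)
    have h2 : L = ⊤ := Subgroup.eq_top_of_le_card L h1
    exact hw₀ (mem_ker_delta.1 (show w₀ ∈ L by rw [h2]; exact Subgroup.mem_top _))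
  obtain ⟨rfl, rfl⟩ : a = 2 ∧ b = 1 := by omega
  rw [pow_one] at hb
  -- the image of `delta` is `L`
  have hRcard : Nat.card (delta (x : MulAut W)).range = p := by
    have h := Subgroup.card_mul_index L
    rw [Subgroup.index_ker, hb, ha, pow_two] at h
    exact Nat.eq_of_mul_eq_mul_left hp.out.pos h
  have hδ : ∀ w, delta (x : MulAut W) w ∈ L := by
    set R := (delta (x : MulAut W)).range with hR
    have hinv : ∀ r ∈ R, (x : MulAut W) r ∈ R := by
      rintro _ ⟨w, rfl⟩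
      exact ⟨(x : MulAut W) w, by simp [delta_apply]⟩
    have hmap : R.map (x : MulAut W).toMonoidHom = R :=
      Subgroup.eq_of_le_of_card_ge (by rintro _ ⟨r, hr, rfl⟩; exact hinv r hr)
        (Subgroup.card_map_of_injective (x : MulAut W).injective).ge
    let e : MulAut R :=
      { toFun := fun r => ⟨(x : MulAut W) r, hinv r r.2⟩
        invFun := fun r => ⟨(x : MulAut W).symm r, by
          obtain ⟨s, hs, hsr⟩ := hmap.ge r.2
          rw [← hsr]
          show (x : MulAut W).symm ((x : MulAut W) s) ∈ R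
          rw [MulEquiv.symm_apply_apply]
          exact hs⟩
        left_inv := fun r => Subtype.ext ((x : MulAut W).symm_apply_apply _)
        right_inv := fun r => Subtype.ext ((x : MulAut W).apply_symm_apply _)
        map_mul' := fun r s => Subtype.ext (map_mul (x : MulAut W) _ _) }
    have hej : ∀ (j : ℕ) (r : R), ((e ^ j) r : W) = ((x : MulAut W) ^ j) r := by
      intro j
      induction j with
      | zero => intro r; rfl
      | succ j ih =>
        intro r
        rw [pow_succ', pow_succ', MulAut.mul_apply, MulAut.mul_apply, ← ih]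
        rfl
    have hek : e ^ p ^ k = 1 := MulEquiv.ext fun r => Subtype.ext (by rw [hej, hxk]; rfl)
    haveI : Nontrivial R := Finite.one_lt_card_iff_nontrivial.1 (hRcard ▸ hp.out.one_lt)
    obtain ⟨r, hr1, hr⟩ := exists_fixed_ne_one (hWp.to_subgroup R) e hek
    have hrL : (r : W) ∈ L := mem_ker_delta.2 (congrArg Subtype.val hr)
    have hr1' : (r : W) ≠ 1 := fun h => hr1 (Subtype.ext h)
    intro w
    have hw : delta (x : MulAut W) w ∈ Subgroup.zpowers (r : W) :=
      (eq_zpowers_of_card_prime hRcard r.2 hr1').le ⟨w, rfl⟩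
    exact Subgroup.zpowers_le.2 hrL hw
  have hAL : ∃ α : A, ∃ l ∈ L, (α : MulAut W) l ∉ L := by
    by_contra! hinv
    let N : Subgroup A :=
      { carrier := {α | (∀ l ∈ L, (α : MulAut W) l = l) ∧ ∀ w, (α : MulAut W) w * w⁻¹ ∈ L}
        one_mem' := ⟨fun l _ => rfl, fun w => by simp⟩
        mul_mem' := by
          rintro α β ⟨hα, hα'⟩ ⟨hβ, hβ'⟩
          refine ⟨fun l hl => ?_, fun w => ?_⟩
          · rw [Subgroup.coe_mul, MulAut.mul_apply, hβ l hl, hα l hl]
          · rw [Subgroup.coe_mul, MulAut.mul_apply]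
            have := L.mul_mem (hα' ((β : MulAut W) w)) (hβ' w)
            rwa [mul_assoc, inv_mul_cancel_left] at this
        inv_mem' := by
          rintro α ⟨hα, hα'⟩
          refine ⟨fun l hl => ?_, fun w => ?_⟩
          · conv_lhs => rw [← hα l hl]
            rw [Subgroup.coe_inv, MulAut.inv_apply_self]
          · have := L.inv_mem (hα' ((α : MulAut W)⁻¹ w))
            rw [MulAut.apply_inv_self, mul_inv_rev, inv_inv] at this
            rwa [Subgroup.coe_inv] }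
    haveI : N.Normal := by
      refine ⟨fun α hα β => ⟨fun l hl => ?_, fun w => ?_⟩⟩
      · rw [Subgroup.coe_mul, Subgroup.coe_mul, MulAut.mul_apply, MulAut.mul_apply, Subgroup.coe_inv]
        rw [hα.1 _ (by rw [← Subgroup.coe_inv]; exact hinv _ l hl), MulAut.apply_inv_self]
      · rw [Subgroup.coe_mul, Subgroup.coe_mul, MulAut.mul_apply, MulAut.mul_apply, Subgroup.coe_inv]
        have := hinv β _ (hα.2 ((β : MulAut W)⁻¹ w))
        rwa [map_mul, map_inv, MulAut.apply_inv_self] at this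
    refine hnot (PSolvable.le_pCore (N := N) (fun α => ⟨1, Subtype.ext (Subtype.ext ?_)⟩) ?_)
    · refine MulEquiv.ext fun w => ?_
      have h1 : (α : A).1 w = w * ((α : A).1 w * w⁻¹) := by rw [mul_comm w, inv_mul_cancel_right]
      rw [pow_one, Subgroup.coe_pow, Subgroup.coe_pow, iter_apply h1 (α.2.1 _ (α.2.2 w)), hexp, mul_one]
      rfl
    · exact ⟨fun l hl => mem_ker_delta.1 hl, fun w => hδ w⟩
  obtain ⟨α, l, hl, hm⟩ := hAL
  set m := (α : MulAut W) l with hm_def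
  have hl1 : l ≠ 1 := fun h => hm (by rw [hm_def, h, map_one]; exact one_mem _)
  have hm1 : m ≠ 1 := fun h => hm (h ▸ one_mem _)
  set y : MulAut W := (α : MulAut W) * (x : MulAut W) * (α : MulAut W)⁻¹ with hy
  have hym : y m = m := by
    rw [hy, MulAut.mul_apply, MulAut.mul_apply, hm_def, MulAut.inv_apply_self, mem_ker_delta.1 hl]
  set e₁ := delta (x : MulAut W) m with he₁
  have he₁L : e₁ ∈ L := hδ m
  have he₁1 : e₁ ≠ 1 := fun h => hm (MonoidHom.mem_ker.2 h)
  have hxm : (x : MulAut W) m = e₁ * m := by rw [he₁, delta_apply, inv_mul_cancel_right]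
  have hxe : (x : MulAut W) e₁ = e₁ := mem_ker_delta.1 he₁L
  set d := y e₁ * e₁⁻¹ with hd
  have hdm : d ∈ Subgroup.zpowers m := by
    have h1 : d = (α : MulAut W) (delta (x : MulAut W) ((α : MulAut W)⁻¹ e₁)) := by
      rw [hd, hy, delta_apply, map_mul, map_inv, MulAut.apply_inv_self]
      rfl
    obtain ⟨i, hi⟩ := Subgroup.mem_zpowers_iff.1 ((eq_zpowers_of_card_prime hb hl hl1).le
      (hδ ((α : MulAut W)⁻¹ e₁)))
    exact Subgroup.mem_zpowers_iff.2 ⟨i, by rw [h1, ← hi, map_zpow]⟩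
  obtain ⟨i, hi⟩ := Subgroup.mem_zpowers_iff.1 hdm
  have hye : y e₁ = e₁ * m ^ i := by rw [hi, hd, mul_comm e₁, inv_mul_cancel_right]
  have hip : (i : ZMod p) ≠ 0 := by
    intro h
    obtain ⟨j, rfl⟩ := (ZMod.intCast_zmod_eq_zero_iff_dvd i p).1 h
    have h1 : y e₁ = e₁ := by rw [hye, zpow_mul, zpow_natCast, hexp, one_zpow, mul_one]
    have h2 : (α : MulAut W)⁻¹ e₁ ∈ L := by
      refine mem_ker_delta.2 ((α : MulAut W).injective ?_)
      rw [MulAut.apply_inv_self]
      exact h1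
    obtain ⟨n, hn⟩ := Subgroup.mem_zpowers_iff.1 ((eq_zpowers_of_card_prime hb hl hl1).le h2)
    have h3 : e₁ = m ^ n := by
      rw [← MulAut.apply_inv_self _ (α : MulAut W) e₁, ← hn, map_zpow]
    refine hm ?_
    have hmn : m ∈ Subgroup.zpowers e₁ := by
      have hc : Nat.card (Subgroup.zpowers m) = p := by
        rw [Nat.card_zpowers]
        exact orderOf_eq_prime (hexp m) hm1
      exact (eq_zpowers_of_card_prime hc ⟨n, h3.symm⟩ he₁1).le (Subgroup.mem_zpowers m)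
    exact Subgroup.zpowers_le.2 he₁L hmn
  have hye' : (y ^ ((i : ZMod p)⁻¹).val) e₁ = e₁ * m := by
    rw [iter_apply hye (by rw [map_zpow, hym])]
    congr 1
    have h1 : ((i * (((i : ZMod p)⁻¹).val : ℕ) - 1 : ℤ) : ZMod p) = 0 := by
      push_cast
      rw [ZMod.natCast_val, ZMod.cast_id, mul_inv_cancel₀ hip, sub_self]
    obtain ⟨j, hj⟩ := (ZMod.intCast_zmod_eq_zero_iff_dvd _ p).1 h1
    rw [← zpow_natCast, ← zpow_mul, show i * (((i : ZMod p)⁻¹).val : ℤ) = p * j + 1 by rw [← hj]; ring,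
      zpow_add_one, zpow_mul, zpow_natCast, hexp, one_zpow, one_mul]
  have hyA : y ∈ A := A.mul_mem (A.mul_mem α.2 x.2) (A.inv_mem α.2)
  have hym' : ∀ c : ℕ, (y ^ c) m = m := by
    intro c
    have := iter_apply (α := y) (w := m) (d := 1) (by rw [hym, mul_one]) (map_one _) c
    rwa [one_pow, mul_one] at this
  refine ⟨ha, e₁, m, hxe, hxm, he₁1, fun w => ?_, fun i j h => ?_, _, A.pow_mem hyA _, hym' _, hye'⟩
  · obtain ⟨j, n, hn, rfl⟩ := exists_pow_mul_mem (G := W) (le_top : L ≤ ⊤)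
      (by rw [Subgroup.card_top, ha, hb, pow_two]) (Subgroup.mem_top m) hm (Subgroup.mem_top w)
    rw [eq_zpowers_of_card_prime hb he₁L he₁1] at hn
    obtain ⟨i, rfl⟩ := (isOfFinOrder_of_finite e₁).mem_powers_iff_mem_zpowers.2 hn
    exact ⟨i, j, mul_comm _ _⟩
  · have h1 := congrArg (fun w : W => (x : MulAut W) w) h
    simp only [map_mul, map_pow, map_one, hxe, hxm, mul_pow] at h1
    rw [mul_left_comm, h, mul_one] at h1
    have hj : (j : ZMod p) = 0 := by
      simpa using cast_eq_of_pow_eq (hexp e₁) he₁1 (b := 0) (by rw [h1, pow_zero])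
    refine ⟨?_, hj⟩
    rw [pow_congr hexp m (j := 0) (by rw [hj, Nat.cast_zero]), pow_zero, mul_one] at h
    simpa using cast_eq_of_pow_eq (hexp e₁) he₁1 (b := 0) (by rw [h, pow_zero])

/-- What is used of such a group `A`. -/
theorem exists_plane_data (hp5 : 5 ≤ p) (hexp : ∀ w : W, w ^ p = 1) (hcard : Nat.card W ≤ p ^ 2)
    {A : Subgroup (MulAut W)} (x : A) {k : ℕ} (hx : x ^ p ^ k = 1) (hnot : x ∉ pCore p A) :
    Nat.card W = p ^ 2 ∧ ∃ l m : W, (x : MulAut W) l = l ∧ (x : MulAut W) m = l * m ∧ l ≠ 1 ∧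
      (∀ w, ∃ i j : ℕ, w = l ^ i * m ^ j) ∧
      (∀ i j : ℕ, l ^ i * m ^ j = 1 → (i : ZMod p) = 0 ∧ (j : ZMod p) = 0) ∧
      (∃ τ ∈ A, ∀ w, τ w = w⁻¹) ∧
      (∃ φ ∈ A, φ l = l ^ (p - 2) ∧ φ m = m ^ ((p - 1) / 2)) ∧
      (∀ I : Subgroup W, I ≠ ⊥ → (∀ a ∈ A, ∀ w ∈ I, a w ∈ I) → I = ⊤) ∧
      (∀ P : Subgroup (MulAut W), P ≤ A → IsPGroup p P → (∀ a ∈ A, ∀ b ∈ P, a * b * a⁻¹ ∈ P) →
        P = ⊥) ∧
      ∀ P : Subgroup (MulAut W), IsPGroup p P → (x : MulAut W) ∈ P →
        ∀ a ∈ P, a l = l ∧ ∃ t : ℕ, a m = l ^ t * m := by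
  obtain ⟨hW, l, m, hxl, hxm, hl1, hspan, hind, y, hy, hym, hyl⟩ :=
    exists_transvections hexp hcard x hx hnot
  have hu : ∀ t : ℕ, ((x : MulAut W) ^ t) l = l ∧ ((x : MulAut W) ^ t) m = l ^ t * m := by
    intro t
    have h1 := iter_apply (α := (x : MulAut W)) (w := l) (d := 1) (by rw [hxl, mul_one]) (map_one _) t
    have h2 := iter_apply (α := (x : MulAut W)) (w := m) (d := l) (by rw [hxm, mul_comm]) hxl t
    rw [one_pow, mul_one] at h1
    exact ⟨h1, by rw [h2, mul_comm]⟩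
  have hv : ∀ s : ℕ, (y ^ s) m = m ∧ (y ^ s) l = l * m ^ s := by
    intro s
    have h1 := iter_apply (α := y) (w := m) (d := 1) (by rw [hym, mul_one]) (map_one _) s
    rw [one_pow, mul_one] at h1
    exact ⟨h1, iter_apply hyl hym s⟩
  have hweyl : ∀ t s : ℕ, (1 + t * s : ZMod p) = 0 → ∃ w ∈ A, w l = m ^ s ∧ w m = l ^ t := by
    intro t s hts
    have h0 : ∀ v : W, v * v ^ (t * s) = 1 := fun v => by
      rw [← pow_succ', pow_congr hexp v (j := 0) (by push_cast; rw [add_comm]; exact hts), pow_zero]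
    refine ⟨(x : MulAut W) ^ t * y ^ s * (x : MulAut W) ^ t,
      A.mul_mem (A.mul_mem (A.pow_mem x.2 t) (A.pow_mem hy s)) (A.pow_mem x.2 t), ?_, ?_⟩
    · rw [MulAut.mul_apply, MulAut.mul_apply, (hu t).1, (hv s).2, map_mul, map_pow, (hu t).1,
        (hu t).2, mul_pow, ← pow_mul, ← mul_assoc, h0, one_mul]
    · rw [MulAut.mul_apply, MulAut.mul_apply, (hu t).2, map_mul, map_pow, (hv s).1, (hv s).2, mul_pow,
        ← pow_mul, mul_assoc, mul_comm s t, mul_comm (m ^ (t * s)) m, h0, mul_one, map_pow, (hu t).1]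
  have hirr : ∀ I : Subgroup W, I ≠ ⊥ → (∀ a ∈ A, ∀ w ∈ I, a w ∈ I) → I = ⊤ := by
    intro I hI hinv
    obtain ⟨w, hw, hw1⟩ : ∃ w ∈ I, w ≠ 1 := by
      by_contra! h
      exact hI ((Subgroup.eq_bot_iff_forall I).2 h)
    obtain ⟨i, j, rfl⟩ := hspan w
    have hlI : l ∈ I := by
      have hgen : ∀ {i : ℕ}, l ^ i ∈ I → (i : ZMod p) ≠ 0 → l ∈ I := by
        intro i hi hi0
        have h := I.pow_mem hi ((i : ZMod p)⁻¹).val
        rwa [← pow_mul, pow_congr hexp l (j := 1) (by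
          push_cast; rw [ZMod.natCast_val, ZMod.cast_id, mul_inv_cancel₀ hi0]), pow_one] at h
      by_cases hj : (j : ZMod p) = 0
      · rw [pow_congr hexp m (j := 0) (by rw [hj, Nat.cast_zero]), pow_zero, mul_one] at hw hw1
        exact hgen hw fun hi => hw1 (by rw [pow_congr hexp l (j := 0) (by rw [hi, Nat.cast_zero]), pow_zero])
      · have h := I.mul_mem (hinv _ x.2 _ hw) (I.inv_mem hw)
        rw [map_mul, map_pow, map_pow, hxl, hxm, mul_pow, mul_left_comm, mul_inv_cancel_right] at h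
        exact hgen h hj
    have hmI : m ∈ I := by
      have h := I.mul_mem (I.inv_mem hlI) (hinv y hy l hlI)
      rwa [hyl, inv_mul_cancel_left] at h
    refine eq_top_iff.2 fun v _ => ?_
    obtain ⟨i, j, rfl⟩ := hspan v
    exact I.mul_mem (I.pow_mem hlI i) (I.pow_mem hmI j)
  have hfix : ∀ P : Subgroup (MulAut W), IsPGroup p P → ∃ w : W, w ≠ 1 ∧ ∀ a ∈ P, a w = w := by
    intro P hP
    obtain ⟨b, hb, hb1⟩ := hP.exists_fixed_point_of_prime_dvd_card_of_fixed_point W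
      (hW ▸ dvd_pow_self p two_ne_zero) (a := (1 : W)) (fun g => smul_one g)
    exact ⟨b, hb1.symm, fun a ha => hb ⟨a, ha⟩⟩
  refine ⟨hW, l, m, hxl, hxm, hl1, hspan, hind, ?_, ?_, hirr, ?_, ?_⟩
  · obtain ⟨w, hw, hwl, hwm⟩ := hweyl 1 (p - 1) (by
      rw [Nat.cast_sub hp.out.one_le]; simp)
    refine ⟨w * w, A.mul_mem hw hw, fun v => ?_⟩
    obtain ⟨i, j, rfl⟩ := hspan v
    have hinv : ∀ u : W, u ^ (p - 1) = u⁻¹ := fun u => by
      refine eq_inv_of_mul_eq_one_left ?_
      rw [← pow_succ, Nat.sub_add_cancel hp.out.one_le, hexp]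
    rw [MulAut.mul_apply, map_mul, map_pow, map_pow, hwl, hwm, pow_one, map_mul, map_pow, map_pow,
      map_pow, hwm, pow_one, hwl, hinv, hinv, mul_inv, inv_pow, inv_pow]
  · have h2 : (p - 1) / 2 * 2 = p - 1 :=
      Nat.div_mul_cancel (hp.out.even_sub_one (by omega)).two_dvd
    obtain ⟨w₁, hw₁, hwl₁, hwm₁⟩ := hweyl 1 (p - 1) (by
      rw [Nat.cast_sub hp.out.one_le]; simp)
    obtain ⟨w₂, hw₂, hwl₂, hwm₂⟩ := hweyl 2 ((p - 1) / 2) (by
      have h := congrArg (fun n : ℕ => (n : ZMod p)) h2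
      simp only [Nat.cast_mul, Nat.cast_sub hp.out.one_le, ZMod.natCast_self] at h
      push_cast at h ⊢
      rw [mul_comm, h]; ring)
    refine ⟨w₂ * w₁, A.mul_mem hw₂ hw₁, ?_, ?_⟩
    · rw [MulAut.mul_apply, hwl₁, map_pow, hwm₂, ← pow_mul]
      refine pow_congr hexp l ?_
      rw [Nat.cast_mul, Nat.cast_sub hp.out.one_le, Nat.cast_sub hp.out.two_le]
      simp
    · rw [MulAut.mul_apply, hwm₁, pow_one, hwl₂]
  · intro P hPA hP hn
    let I : Subgroup W :=
      { carrier := {v | ∀ b ∈ P, b v = v}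
        one_mem' := fun b _ => map_one b
        mul_mem' := fun {u v} (hu : ∀ b ∈ P, b u = u) (hv : ∀ b ∈ P, b v = v) b hb => by
          rw [map_mul, hu b hb, hv b hb]
        inv_mem' := fun {u} (hu : ∀ b ∈ P, b u = u) b hb => by rw [map_inv, hu b hb] }
    obtain ⟨w, hw1, hw⟩ := hfix P hP
    have hI : I = ⊤ := hirr I (fun h => hw1 (Subgroup.mem_bot.1 (h ▸ (hw : w ∈ I)))) fun a ha v hv b hb => by
      have h := hv _ (hn a⁻¹ (A.inv_mem ha) b hb)
      rw [inv_inv, MulAut.mul_apply, MulAut.mul_apply] at h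
      have h' := congrArg (fun u : W => a u) h
      simpa using h'
    refine (Subgroup.eq_bot_iff_forall P).2 fun b hb => MulEquiv.ext fun v => ?_
    exact (hI ▸ Subgroup.mem_top v : v ∈ I) b hb
  · intro P hP hxP a ha
    obtain ⟨w, hw1, hw⟩ := hfix P hP
    obtain ⟨i, j, rfl⟩ := hspan w
    have hx' := hw _ hxP
    rw [map_mul, map_pow, map_pow, hxl, hxm, mul_pow, mul_left_comm] at hx'
    have hj : (j : ZMod p) = 0 := by
      simpa using cast_eq_of_pow_eq (hexp l) hl1 (b := 0) (by rw [pow_zero]; exact mul_eq_right.1 hx')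
    rw [pow_congr hexp m (j := 0) (by rw [hj, Nat.cast_zero]), pow_zero, mul_one] at hw hw1
    have hi : (i : ZMod p) ≠ 0 := fun h =>
      hw1 (by rw [pow_congr hexp l (j := 0) (by rw [h, Nat.cast_zero]), pow_zero])
    have hal : a l = l := by
      have h := congrArg (fun v : W => v ^ ((i : ZMod p)⁻¹).val) (hw a ha)
      simp only [← map_pow, ← pow_mul] at h
      rwa [pow_congr hexp l (j := 1) (by
        push_cast; rw [ZMod.natCast_val, ZMod.cast_id, mul_inv_cancel₀ hi]), pow_one] at h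
    refine ⟨hal, ?_⟩
    obtain ⟨t, j, hat⟩ := hspan (a m)
    have hiter : ∀ n : ℕ, ∃ r : ℕ, (a ^ n) m = l ^ r * m ^ j ^ n := by
      intro n
      induction n with
      | zero => exact ⟨0, by simp⟩
      | succ n ih =>
        obtain ⟨r, hr⟩ := ih
        exact ⟨r + t * j ^ n, by
          rw [pow_succ', MulAut.mul_apply, hr, map_mul, map_pow, map_pow, hal, hat, mul_pow, ← pow_mul,
            ← pow_mul, pow_add, pow_succ' j, mul_assoc]⟩
    obtain ⟨n, hn⟩ := hP ⟨a, ha⟩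
    have han : a ^ p ^ n = 1 := congrArg Subtype.val hn
    obtain ⟨r, hr⟩ := hiter (p ^ n)
    rw [han, MulAut.one_apply] at hr
    have hj1 : (j : ZMod p) = 1 := by
      have h : l ^ r * m ^ (j ^ p ^ n + (p - 1)) = 1 := by
        rw [pow_add, ← mul_assoc, ← hr, ← pow_succ', Nat.sub_add_cancel hp.out.one_le, hexp]
      have h2 := (hind _ _ h).2
      rw [Nat.cast_add, Nat.cast_pow, ZMod.pow_card_pow, Nat.cast_sub hp.out.one_le] at h2
      simpa [sub_eq_zero, sub_eq_add_neg] using eq_neg_of_add_eq_zero_left h2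
    exact ⟨t, by rw [hat, pow_congr hexp m (j := 1) (by rw [hj1, Nat.cast_one]), pow_one]⟩

end Cfsg.Agent.Lib.RankTwoFusion
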