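import Cfsg.Agent.Lib.RankTwoFusion.CaseHeisenberg
import Cfsg.Agent.Lib.Fusion.LeastNormal

/-!
A self-centralising subgroup of order `p²` with normaliser of order `p³` and exponent `p`: the normaliser
is the whole group when an automorphism of it acts suitably.
-/

set_option autoImplicit false

namespace Cfsg.Agent.Lib.RankTwoFusion

open Cfsg Cfsg.FusionSystem Cfsg.Agent.Lib.Fusion

/-- A normal subgroup of order `p²` between normal subgroups of orders `p` and `p³`. -/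
theorem exists_between {G : Type*} [Group G] [Finite G] {p : ℕ} [hp : Fact p.Prime] (hG : IsPGroup p G)
    {H Z : Subgroup G} [H.Normal] [Z.Normal] (hZH : Z ≤ H) (hH : Nat.card H = p ^ 3)
    (hZ : Nat.card Z = p) :
    ∃ E : Subgroup G, E.Normal ∧ Z ≤ E ∧ E ≤ H ∧ Nat.card E = p ^ 2 := by
  haveI : (H.map (QuotientGroup.mk' Z)).Normal :=
    Subgroup.Normal.map inferInstance _ (QuotientGroup.mk'_surjective Z)
  have hne : H.map (QuotientGroup.mk' Z) ≠ ⊥ := by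
    rw [Ne, Subgroup.map_eq_bot_iff, QuotientGroup.ker_mk']
    intro h
    have := Subgroup.card_le_of_le h
    rw [hH, hZ] at this
    exact absurd this (Nat.not_le.2 (by simpa using Nat.pow_lt_pow_right hp.out.one_lt (show 1 < 3 by norm_num)))
  obtain ⟨y, hy, hy1⟩ := Puig.exists_mem_center_of_normal (hG.to_quotient Z) _ hne
  obtain ⟨k, hk⟩ := hG.to_quotient Z y
  obtain ⟨j, -, hj⟩ := (Nat.dvd_prime_pow hp.out).1 (orderOf_dvd_of_pow_eq_one hk)
  have hj0 : j ≠ 0 := by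
    rintro rfl
    exact hy1 (orderOf_eq_one_iff.1 (by rw [hj, pow_zero]))
  set u := y ^ p ^ (j - 1) with hu
  have hord : orderOf u = p := by
    rw [hu, orderOf_pow' y (pow_ne_zero _ hp.out.ne_zero), hj,
      Nat.gcd_eq_right (pow_dvd_pow p (by omega)), Nat.pow_div (by omega) hp.out.pos,
      show j - (j - 1) = 1 by omega, pow_one]
  have hun : (Subgroup.zpowers u).Normal := ⟨fun a ha q => by
    have hc : a ∈ Subgroup.center (G ⧸ Z) := Subgroup.zpowers_le.2 (Subgroup.pow_mem _ hy.2 _) ha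
    rwa [Subgroup.mem_center_iff.1 hc q, mul_inv_cancel_right]⟩
  refine ⟨(Subgroup.zpowers u).comap (QuotientGroup.mk' Z), hun.comap _, ?_, ?_, ?_⟩
  · intro z hz
    rw [Subgroup.mem_comap, QuotientGroup.mk'_apply, (QuotientGroup.eq_one_iff z).2 hz]
    exact one_mem _
  · calc _ ≤ (H.map (QuotientGroup.mk' Z)).comap (QuotientGroup.mk' Z) :=
          Subgroup.comap_mono (Subgroup.zpowers_le.2 (Subgroup.pow_mem _ hy.1 _))
      _ = H := by rw [Subgroup.comap_map_eq, QuotientGroup.ker_mk', sup_of_le_left hZH]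
  · have h1 := Subgroup.card_mul_index ((Subgroup.zpowers u).comap (QuotientGroup.mk' Z))
    rw [Subgroup.index_comap_of_surjective _ (QuotientGroup.mk'_surjective Z)] at h1
    have h2 := Subgroup.card_mul_index (Subgroup.zpowers u)
    rw [Nat.card_zpowers, hord] at h2
    have h3 := Subgroup.card_eq_card_quotient_mul_card_subgroup Z
    rw [← h2, hZ, ← h1] at h3
    refine Nat.eq_of_mul_eq_mul_right (Nat.pos_of_ne_zero (Subgroup.index_ne_zero_of_finite (H := Subgroup.zpowers u))) ?_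
    rw [h3]; ring

variable {Ω : Type*} [Group Ω] {S : Subgroup Ω} {F : FusionSystem S} {p : ℕ} {R : Subgroup Ω}
variable [hp : Fact p.Prime] [Finite S]

theorem false_of_proper (hp5 : 5 ≤ p) (hS : IsPGroup p S) (hF : F.IsSaturated p)
    (hrank3 : ∀ E : Subgroup Ω, E ≤ S → IsElementaryAbelian p E → Nat.card E ≤ p ^ 2)
    (hRn : F.IsFullyNormalized R) (hRc : F.IsCentric R) (hRcard : Nat.card R = p ^ 2)
    (N : Subgroup Ω) (hN : N = normalizerIn S R)
    (hNcard : Nat.card N = p ^ 3) (hNexp : ∀ v ∈ N, v ^ p = 1)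
    (hNS : N ≠ S) (L : Subgroup Ω) (hLR : L ≤ R) (hLcard : Nat.card L = p)
    (hLcen : ∀ v ∈ L, ∀ w ∈ N, w * v = v * w)
    (hcen : ∀ v ∈ N, (∀ w ∈ N, w * v = v * w) → v ∈ L)
    (ψ : MulAut N) (hψ : ψ ∈ F.autGroup N) (m : N)
    (hm : (m : Ω) ∈ R) (hmL : (m : Ω) ∉ L) (hψm : ψ m = m ^ ((p - 1) / 2)) : False := by
  classical
  have hNle : N ≤ S := hN ▸ normalizerIn_le R
  have hRS := hRn.1
  have hRN : R ≤ N := hN ▸ le_normalizerIn hRS
  haveI : Finite N := finite_of_le hNle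
  haveI : Finite R := finite_of_le hRS
  -- an element outside `N` normalising it
  obtain ⟨x₀, hx₀, hx₀N⟩ : ∃ x ∈ normalizerIn S N, x ∉ N := by
    refine SetLike.not_le_iff_exists.1 fun h => ?_
    exact (Fusion87.card_lt_normalizerIn hS hNle hNS).not_ge (Subgroup.card_le_of_le h)
  have hex : ∃ k, x₀ ^ p ^ k ∈ N := by
    obtain ⟨k, hk⟩ := hS ⟨x₀, hx₀.1⟩
    exact ⟨k, by rw [show x₀ ^ p ^ k = 1 from congrArg Subtype.val hk]; exact one_mem _⟩
  obtain ⟨k, hk⟩ : ∃ k, Nat.find hex = k + 1 := Nat.exists_eq_succ_of_ne_zero fun h => hx₀N (by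
    have := Nat.find_spec hex
    rwa [h, pow_zero, pow_one] at this)
  set x := x₀ ^ p ^ k with hx
  have hxmem : x ∈ normalizerIn S N := Subgroup.pow_mem _ hx₀ _
  have hxN : x ∉ N := Nat.find_min hex (m := k) (by omega)
  have hxp : x ^ p ∈ N := by
    rw [hx, ← pow_mul, ← pow_succ, ← hk]; exact Nat.find_spec hex
  set M := Subgroup.zpowers x ⊔ N with hM
  have hxnorm : Subgroup.zpowers x ≤ Subgroup.normalizer (N : Set Ω) :=
    Subgroup.zpowers_le.2 hxmem.2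
  have hMnorm : M ≤ Subgroup.normalizer (N : Set Ω) := sup_le hxnorm Subgroup.le_normalizer
  have hMS : M ≤ S := sup_le (Subgroup.zpowers_le.2 hxmem.1) hNle
  have hNM : N ≤ M := le_sup_right
  have hxM : x ∈ M := Subgroup.mem_sup_left (Subgroup.mem_zpowers x)
  haveI : Finite M := finite_of_le hMS
  have hMdec : ∀ a : M, ∃ n : ℕ, ∃ h : N, a = (⟨x, hxM⟩ : M) ^ n * Subgroup.inclusion hNM h := by
    intro a
    have ha : (a : Ω) ∈ ((Subgroup.zpowers x ⊔ N : Subgroup Ω) : Set Ω) := a.2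
    rw [Subgroup.coe_mul_of_left_le_normalizer_right _ _ hxnorm] at ha
    obtain ⟨y, hy, h, hh, hyh⟩ := ha
    have hfin : IsOfFinOrder x := S.subtype.isOfFinOrder (isOfFinOrder_of_finite (⟨x, hMS hxM⟩ : S))
    obtain ⟨n, rfl⟩ := hfin.mem_powers_iff_mem_zpowers.2 hy
    exact ⟨n, ⟨h, hh⟩, Subtype.ext (by rw [Subgroup.coe_mul, Subgroup.coe_pow]; exact hyh.symm)⟩
  -- subgroups of `M`
  set κ := Subgroup.inclusion hNM with hκ
  have hκi : Function.Injective κ := Subgroup.inclusion_injective hNM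
  set H := (⊤ : Subgroup N).map κ with hH
  set Z := (L.subgroupOf N).map κ with hZ
  have hLN : L ≤ N := hLR.trans hRN
  have hactN : ∀ (a : M) (v : N), (a : Ω) * v * (a : Ω)⁻¹ ∈ N := fun a v =>
    (Subgroup.mem_normalizer_iff.1 (hMnorm a.2) _).1 v.2
  haveI : H.Normal := ⟨by
    rintro _ ⟨v, -, rfl⟩ a
    exact ⟨⟨_, hactN a v⟩, Subgroup.mem_top _, rfl⟩⟩
  haveI : Z.Normal := ⟨by
    rintro _ ⟨v, hv, rfl⟩ a
    refine ⟨⟨_, hactN a v⟩, hcen _ (hactN a v) fun w hw => ?_, rfl⟩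
    have hw' : (a : Ω)⁻¹ * w * a ∈ N := by simpa using hactN a⁻¹ ⟨w, hw⟩
    calc w * ((a : Ω) * v * (a : Ω)⁻¹) = (a : Ω) * ((a : Ω)⁻¹ * w * a * v) * (a : Ω)⁻¹ := by group
      _ = (a : Ω) * v * (a : Ω)⁻¹ * w := by
        rw [show (a : Ω)⁻¹ * w * a * (v : Ω) = v * ((a : Ω)⁻¹ * w * a) from hLcen _ hv _ hw']; group⟩
  have hHcard : Nat.card H = p ^ 3 := by
    rw [hH, Subgroup.card_map_of_injective hκi, Subgroup.card_top, hNcard]
  have hZcard : Nat.card Z = p := by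
    rw [hZ, Subgroup.card_map_of_injective hκi,
      Nat.card_congr (Subgroup.subgroupOfEquivOfLe hLN).toEquiv, hLcard]
  have hG : IsPGroup p M := hS.to_le hMS
  have hrk : NoBig p M := noBig_of_le hrank3 hMS
  have hexp : ∀ h ∈ H, h ^ p = 1 := by
    rintro _ ⟨v, -, rfl⟩
    rw [← map_pow, show v ^ p = 1 from Subtype.ext (hNexp v v.2), map_one]
  obtain ⟨E, hEn, hZE, hEH, hEcard⟩ := exists_between hG (Subgroup.map_mono le_top : Z ≤ H) hHcard hZcard
  haveI := hEn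
  have hEHc : Nat.card H = p * Nat.card E := by rw [hHcard, hEcard]; ring
  have hZEc : Nat.card E = p * Nat.card Z := by rw [hEcard, hZcard]; ring
  have hHE : ∀ a : M, ∀ h ∈ H, a * h * a⁻¹ * h⁻¹ ∈ E := fun a h hh =>
    comm_mem_of_index_prime hG hEH hEHc a hh
  have hEZ : ∀ a : M, ∀ e ∈ E, a * e * a⁻¹ * e⁻¹ ∈ Z := fun a e he =>
    comm_mem_of_index_prime hG hZE hZEc a he
  set x' : M := ⟨x, hxM⟩ with hx'
  -- `x` does not normalise `R`
  have hxR : x ∉ Subgroup.normalizer (R : Set Ω) := fun h => hxN (hN ▸ ⟨hMS hxM, h⟩)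
  set Rn := R.subgroupOf N with hRn'
  have hZR : Z ≤ Rn.map κ := Subgroup.map_mono (Subgroup.comap_mono hLR)
  have hRncard : Nat.card (Rn.map κ) = p ^ 2 := by
    rw [Subgroup.card_map_of_injective hκi, Nat.card_congr (Subgroup.subgroupOfEquivOfLe hRN).toEquiv,
      hRcard]
  have hmZ : κ m ∉ Z := by
    rintro ⟨v, hv, hvm⟩
    obtain rfl := hκi hvm
    exact hmL hv
  have hRdec : ∀ v ∈ Rn.map κ, ∃ i : ℕ, ∃ n ∈ Z, v = κ m ^ i * n := fun v hv =>
    exists_pow_mul_mem hZR (by rw [hRncard, hZcard]; ring) (Subgroup.mem_map_of_mem κ hm) hmZ hv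
  have hmE : κ m ∉ E := by
    intro h
    have hle : Rn.map κ ≤ E := fun v hv => by
      obtain ⟨i, n, hn, rfl⟩ := hRdec v hv
      exact E.mul_mem (E.pow_mem h i) (hZE hn)
    have heq : Rn.map κ = E := Subgroup.eq_of_le_of_card_ge hle (by rw [hRncard, hEcard])
    refine hxR (Subgroup.mem_normalizer_fintype fun n hn => ?_)
    obtain ⟨v, hv, hvn⟩ := heq.ge (hEn.conj_mem _ (heq.le (Subgroup.mem_map_of_mem κ
      (show (⟨n, hRN hn⟩ : N) ∈ Rn from hn))) x')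
    rw [show x * n * x⁻¹ = (v : Ω) from (congrArg Subtype.val hvn).symm]
    exact hv
  set w := x' * κ m * x'⁻¹ * (κ m)⁻¹ with hw
  have hwE : w ∈ E := hHE x' _ ⟨m, Subgroup.mem_top _, rfl⟩
  have hwZ : w ∉ Z := by
    intro h
    refine hxR (Subgroup.mem_normalizer_fintype fun n hn => ?_)
    obtain ⟨i, z, hz, hnz⟩ := hRdec (κ ⟨n, hRN hn⟩) (Subgroup.mem_map_of_mem κ hn)
    have h1 : x' * κ ⟨n, hRN hn⟩ * x'⁻¹ ∈ Rn.map κ := by
      rw [hnz, show x' * (κ m ^ i * z) * x'⁻¹ = (x' * κ m * x'⁻¹) ^ i * (x' * z * x'⁻¹) by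
        rw [conj_pow]; group]
      refine mul_mem (pow_mem ?_ i) (hZR ((inferInstance : Z.Normal).conj_mem z hz x'))
      have := mul_mem (hZR h) (Subgroup.mem_map_of_mem κ (show m ∈ Rn from hm))
      rwa [hw, inv_mul_cancel_right] at this
    obtain ⟨v, hv, hvn⟩ := h1
    rw [show x * n * x⁻¹ = (v : Ω) from (congrArg Subtype.val hvn).symm]
    exact hv
  have hEdec : ∀ v ∈ E, ∃ i : ℕ, ∃ n ∈ Z, v = w ^ i * n := fun v hv =>
    exists_pow_mul_mem hZE hZEc hwE hwZ hv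
  have hHdec : ∀ v ∈ H, ∃ i : ℕ, ∃ n ∈ E, v = κ m ^ i * n := fun v hv =>
    exists_pow_mul_mem hEH hEHc ⟨m, Subgroup.mem_top _, rfl⟩ hmE hv
  -- modulo `Z`
  let π := QuotientGroup.mk' Z
  have hπ : ∀ u : M, u ∈ Z → π u = 1 := fun u hu => (QuotientGroup.eq_one_iff u).2 hu
  have hπE : ∀ (u : M), ∀ e ∈ E, Commute (π e) (π u) := by
    intro u e he
    have h := hπ _ (hEZ u e he)
    simp only [map_mul, map_inv] at h
    exact (mul_inv_eq_iff_eq_mul.1 (mul_inv_eq_one.1 h)).symm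
  have hπx : ∀ j s : ℕ, π (x' ^ j * κ m ^ s * (x' ^ j)⁻¹) = π w ^ (j * s) * π (κ m) ^ s := by
    have h1 : π x' * π (κ m) * (π x')⁻¹ = π w * π (κ m) := by
      rw [hw]; simp only [map_mul, map_inv]; group
    have h2 : ∀ j : ℕ, π x' ^ j * π (κ m) * (π x' ^ j)⁻¹ = π w ^ j * π (κ m) := by
      intro j
      induction j with
      | zero => simp
      | succ j ih =>
        calc π x' ^ (j + 1) * π (κ m) * (π x' ^ (j + 1))⁻¹
            = π x' * (π x' ^ j * π (κ m) * (π x' ^ j)⁻¹) * (π x')⁻¹ := by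
              rw [pow_succ']; simp only [mul_inv_rev, mul_assoc]
          _ = π w ^ j * (π x' * π (κ m) * (π x')⁻¹) := by
              rw [ih, ← mul_assoc (π x'), ← ((hπE x' w hwE).pow_left j).eq]; simp only [mul_assoc]
          _ = π w ^ (j + 1) * π (κ m) := by rw [h1, ← mul_assoc, ← pow_succ]
    intro j s
    rw [map_mul, map_mul, map_inv, map_pow, map_pow, ← conj_pow, h2,
      ((hπE (κ m) w hwE).pow_left j).mul_pow, ← pow_mul]
  -- automorphisms preserve `L`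
  have hautL : ∀ b : MulAut N, ∀ v : N, (v : Ω) ∈ L → (b v : Ω) ∈ L := by
    intro b v hv
    refine hcen _ (b v).2 fun u hu => ?_
    have h : b.symm ⟨u, hu⟩ * v = v * b.symm ⟨u, hu⟩ := Subtype.ext (hLcen _ hv _ (b.symm ⟨u, hu⟩).2)
    have h' := congrArg b h
    simp only [map_mul, MulEquiv.apply_symm_apply] at h'
    exact congrArg Subtype.val h'
  -- automorphisms in the system preserve `E`
  have hautE : ∀ b ∈ F.autGroup N, ∀ v : N, κ v ∈ E → κ (b v) ∈ E := by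
    intro b hb
    obtain ⟨e, -, hew⟩ := hEH hwE
    have hcase : κ (b e) ∈ E := by
      by_contra he'
      obtain ⟨s, v₀, hv₀, hbe⟩ := hHdec (κ (b e)) ⟨b e, Subgroup.mem_top _, rfl⟩
      have hs : (s : ZMod p) ≠ 0 := by
        intro h
        obtain ⟨t, rfl⟩ := (ZMod.natCast_eq_zero_iff s p).1 h
        rw [pow_mul, hexp _ ⟨m, Subgroup.mem_top _, rfl⟩, one_pow, one_mul] at hbe
        exact he' (hbe ▸ hv₀)
      obtain ⟨u, n₀, hn₀, rfl⟩ := hEdec v₀ hv₀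
      set j := ((u : ZMod p) * (s : ZMod p)⁻¹).val with hj
      have hju : π w ^ (j * s) = π w ^ u := by
        have hwp : π w ^ p = 1 := by rw [← map_pow, hexp w (hEH hwE), map_one]
        rw [pow_eq_pow_mod _ hwp, pow_eq_pow_mod u hwp]
        congr 1
        rw [← ZMod.natCast_eq_natCast_iff']
        push_cast
        rw [hj, ZMod.natCast_val, ZMod.cast_id, mul_assoc, inv_mul_cancel₀ hs, mul_one]
      have hin : (x' ^ j)⁻¹ * κ (b e) * x' ^ j ∈ Rn.map κ := by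
        have h1 : π (κ (b e)) = π (x' ^ j * κ m ^ s * (x' ^ j)⁻¹) := by
          rw [hπx, hju, hbe, map_mul, map_mul, hπ n₀ hn₀, mul_one, map_pow, map_pow,
            (((hπE (κ m) w hwE).pow_left u).pow_right s).eq]
        have h2 : π ((x' ^ j)⁻¹ * κ (b e) * x' ^ j * (κ m ^ s)⁻¹) = 1 := by
          rw [map_mul, map_mul, map_mul, h1]
          simp only [map_mul, map_inv]
          group
        have h3 := mul_mem (hZR ((QuotientGroup.eq_one_iff _).1 h2))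
          (pow_mem (Subgroup.mem_map_of_mem κ (show m ∈ Rn from hm)) s)
        rwa [inv_mul_cancel_right] at h3
      -- `E` would be conjugate to `R`
      set E₀ := (E.comap κ).map N.subtype with hE₀
      have hE₀N : E₀ ≤ N := Subgroup.map_subtype_le _
      have hE₀card : Nat.card E₀ = p ^ 2 := by
        rw [hE₀, Subgroup.card_map_of_injective N.subtype_injective, ← hEcard,
          ← Subgroup.card_map_of_injective hκi, Subgroup.map_comap_eq_self (hEH.trans (Subgroup.map_le_range _ _))]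
      have hb0 : (autHom b).comp (Subgroup.inclusion hE₀N) ∈ F.Hom E₀ :=
        restrict_mem (autGroup_hom_mem hNle hb) hE₀N
      have hc0 : conjHom N ((x : Ω) ^ j)⁻¹ ∈ F.Hom N :=
        F.conj_mem hNle (S.inv_mem (S.pow_mem (hMS hxM) j))
      obtain ⟨χ, hχ, hχv⟩ := exists_comp hb0 hc0 fun v => (b _).2
      have hχR : χ.range = R := by
        refine Subgroup.eq_of_le_of_card_ge ?_ (by rw [card_range hχ, hE₀card, hRcard])
        rintro _ ⟨v, rfl⟩
        rw [hχv]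
        obtain ⟨v', hv', hvv⟩ := v.2
        obtain ⟨i, n, hn, hvi⟩ := hEdec (κ v') hv'
        obtain ⟨n', hn', rfl⟩ := hn
        have e1 : v' = e ^ i * n' := hκi (by rw [map_mul, map_pow, hew, hvi])
        have e2 : κ (b v') = κ (b e) ^ i * κ (b n') := by rw [e1, map_mul, map_pow, map_mul, map_pow]
        have hmem : (x' ^ j)⁻¹ * κ (b v') * x' ^ j ∈ Rn.map κ := by
          rw [e2, show (x' ^ j)⁻¹ * (κ (b e) ^ i * κ (b n')) * x' ^ j =
            ((x' ^ j)⁻¹ * κ (b e) ^ i * ((x' ^ j)⁻¹)⁻¹) * ((x' ^ j)⁻¹ * κ (b n') * x' ^ j) by group,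
            ← conj_pow, inv_inv]
          refine mul_mem (pow_mem hin i) (hZR ?_)
          simpa using (inferInstance : Z.Normal).conj_mem _
            (Subgroup.mem_map_of_mem κ (show b n' ∈ L.subgroupOf N from hautL b n' hn')) (x' ^ j)⁻¹
        obtain ⟨r, hr, hre⟩ := hmem
        have hre' := congrArg Subtype.val hre
        have hv'' : Subgroup.inclusion hE₀N v = v' := Subtype.ext hvv.symm
        show ((x : Ω) ^ j)⁻¹ * ((b (Subgroup.inclusion hE₀N v) : N) : Ω) * (((x : Ω) ^ j)⁻¹)⁻¹ ∈ R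
        rw [hv'', inv_inv]
        have h4 : ((r : N) : Ω) = ((x : Ω) ^ j)⁻¹ * (b v' : Ω) * (x : Ω) ^ j := hre'
        rw [← h4]
        exact hr
      have hcard := hRn.2 E₀ (isConj_symm ⟨χ, hχ, hχR⟩)
      rw [← hN] at hcard
      have hME : M ≤ normalizerIn S E₀ := by
        intro a ha
        haveI : Finite E₀ := finite_of_le (hE₀N.trans hNle)
        refine ⟨hMS ha, Subgroup.mem_normalizer_fintype fun n hn => ?_⟩
        obtain ⟨v, hv, rfl⟩ := hn
        exact ⟨⟨_, hactN ⟨a, ha⟩ v⟩, hEn.conj_mem _ hv ⟨a, ha⟩, rfl⟩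
      haveI := finite_normalizerIn (S := S) E₀
      have h5 : Nat.card M ≤ Nat.card N := (Subgroup.card_le_of_le hME).trans hcard
      exact hxN ((Subgroup.eq_of_le_of_card_ge hNM h5).symm ▸ hxM)
    intro v hv
    obtain ⟨i, n, hn, hvi⟩ := hEdec (κ v) hv
    obtain ⟨n', hn', rfl⟩ := hn
    rw [show v = e ^ i * n' from hκi (by rw [map_mul, map_pow, hew, hvi]), map_mul, map_pow, map_mul, map_pow]
    exact E.mul_mem (E.pow_mem hcase i) (hZE (Subgroup.mem_map_of_mem κ (hautL b n' hn')))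
  -- conjugation by `x` transported by `ψ` is induced in `M`
  let cx : N →* N :=
    { toFun := fun v => ⟨_, hactN x' v⟩
      map_one' := Subtype.ext (by simp)
      map_mul' := fun u v => Subtype.ext (by simp) }
  have hcx : ∀ v : N, κ (cx v) = x' * κ v * x'⁻¹ := fun v => Subtype.ext rfl
  let f : H →* M := κ.comp ((ψ.toMonoidHom.comp (cx.comp ψ.symm.toMonoidHom)).comp
    ((Subgroup.topEquiv.toMonoidHom).comp ((⊤ : Subgroup N).equivMapOfInjective κ hκi).symm.toMonoidHom))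
  have hf : ∀ v : N, ∀ hv : κ v ∈ H, f ⟨κ v, hv⟩ = κ (ψ (cx (ψ.symm v))) := by
    intro v hv
    have e : ((⊤ : Subgroup N).equivMapOfInjective κ hκi).symm ⟨κ v, hv⟩ = ⟨v, Subgroup.mem_top v⟩ :=
      (MulEquiv.symm_apply_eq _).2 (Subtype.ext rfl)
    show κ (ψ (cx (ψ.symm (Subgroup.topEquiv (((⊤ : Subgroup N).equivMapOfInjective κ hκi).symm ⟨κ v, hv⟩))))) = _
    rw [e]
    rfl
  have hψs : ψ.symm ∈ F.autGroup N := (F.autGroup N).inv_mem hψ
  have hfE : ∀ v : N, κ (ψ (cx (ψ.symm v))) * (κ v)⁻¹ ∈ E ∧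
      (κ v ∈ E → κ (ψ (cx (ψ.symm v))) * (κ v)⁻¹ ∈ Z) := by
    intro v
    have e1 : κ (ψ (cx (ψ.symm v))) * (κ v)⁻¹ = κ (ψ (cx (ψ.symm v) * (ψ.symm v)⁻¹)) := by
      rw [map_mul ψ, map_mul κ, map_inv ψ, map_inv κ, MulEquiv.apply_symm_apply]
    have e2 : κ (cx (ψ.symm v) * (ψ.symm v)⁻¹) = x' * κ (ψ.symm v) * x'⁻¹ * (κ (ψ.symm v))⁻¹ := by
      rw [map_mul, map_inv, hcx]
    refine ⟨?_, fun hv => ?_⟩
    · rw [e1]
      exact hautE ψ hψ _ (e2 ▸ hHE x' _ ⟨_, Subgroup.mem_top _, rfl⟩)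
    · have h1 := hEZ x' _ (hautE ψ.symm hψs v hv)
      rw [← e2] at h1
      obtain ⟨v', hv', hvv⟩ := h1
      obtain rfl := hκi hvv
      rw [e1]
      exact Subgroup.mem_map_of_mem κ (hautL ψ _ hv')
  obtain ⟨u, nu, hnu, hu⟩ := hEdec _ (hfE m).1
  let f' : H →* M := (MulAut.conj (x' ^ u)⁻¹).toMonoidHom.comp f
  obtain ⟨u', hu', hfu⟩ := exists_conj_of_trivial_mod hG hrk hEH hZE hHcard hEcard hZcard hexp f' (by
    intro v
    obtain ⟨⟨_, v₁, -, rfl⟩, rfl⟩ : ∃ v' : H, v' = v := ⟨v, rfl⟩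
    have hv' : κ v₁ ∈ H := ⟨v₁, Subgroup.mem_top _, rfl⟩
    show (x' ^ u)⁻¹ * f ⟨κ v₁, hv'⟩ * (x' ^ u)⁻¹⁻¹ * (κ v₁)⁻¹ ∈ Z
    rw [inv_inv, hf v₁ hv', ← QuotientGroup.eq_one_iff]
    show π _ = 1
    obtain ⟨s, e₁, he₁, hv₁⟩ := hHdec (κ v₁) ⟨v₁, Subgroup.mem_top _, rfl⟩
    obtain ⟨e₂, -, rfl⟩ := hEH he₁
    have e0 : v₁ = m ^ s * e₂ := hκi (by rw [map_mul, map_pow, hv₁])
    have hm1 : π (κ (ψ (cx (ψ.symm m)))) = π w ^ u * π (κ m) := by
      have h := congrArg π (mul_inv_eq_iff_eq_mul.1 hu)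
      rwa [map_mul, map_mul, map_pow, hπ nu hnu, mul_one] at h
    have he1 : π (κ (ψ (cx (ψ.symm e₂)))) = π (κ e₂) := by
      have h := hπ _ ((hfE e₂).2 he₁)
      rwa [map_mul, map_inv, mul_inv_eq_one] at h
    have hx2 : π (x' ^ u) * π (κ m) ^ s * (π (x' ^ u))⁻¹ = π w ^ (u * s) * π (κ m) ^ s := by
      rw [← map_pow π (κ m), ← map_inv, ← map_mul, ← map_mul, hπx, map_pow π (κ m)]
    have hfv : π (κ (ψ (cx (ψ.symm v₁)))) =
        π (x' ^ u) * π (κ v₁) * (π (x' ^ u))⁻¹ := by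
      rw [e0]
      simp only [map_mul, map_pow]
      rw [hm1, he1, ((hπE (κ m) w hwE).pow_left u).mul_pow, ← pow_mul]
      have hc : Commute (π (κ e₂)) (π (x' ^ u))⁻¹ := (hπE _ _ he₁).inv_right
      rw [map_pow] at hx2
      calc π w ^ (u * s) * π (κ m) ^ s * π (κ e₂)
          = π x' ^ u * π (κ m) ^ s * ((π x' ^ u)⁻¹ * π (κ e₂)) := by rw [← hx2]; group
        _ = _ := by
          rw [map_pow] at hc
          rw [← hc.eq]; group
    simp only [map_mul, map_inv, hfv]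
    group)
  have hkey : ∀ v : N, κ (ψ (cx (ψ.symm v))) = x' ^ u * u' * κ v * (x' ^ u * u')⁻¹ := by
    intro v
    have hv' : κ v ∈ H := ⟨v, Subgroup.mem_top _, rfl⟩
    have h : (x' ^ u)⁻¹ * f ⟨κ v, hv'⟩ * (x' ^ u)⁻¹⁻¹ = u' * κ v * u'⁻¹ := hfu ⟨κ v, hv'⟩
    rw [hf v hv', inv_inv] at h
    calc κ (ψ (cx (ψ.symm v))) = x' ^ u * ((x' ^ u)⁻¹ * κ (ψ (cx (ψ.symm v))) * x' ^ u) * (x' ^ u)⁻¹ := by group
      _ = _ := by rw [h]; group
  set h₀ := x' ^ u * u' with hh₀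
  -- extend
  set φ := autHom ψ with hφ
  have hφmem : φ ∈ F.Hom N := autGroup_hom_mem hNle hψ
  have hMext : M ≤ extender S N φ := by
    refine sup_le (Subgroup.zpowers_le.2 ?_) (le_extender hφmem)
    refine mem_extender.2 ⟨hMS hxM, hxmem.2, (h₀ : Ω), hMS h₀.2, fun v hv => ?_⟩
    have h := congrArg Subtype.val (hkey (ψ v))
    rw [MulEquiv.symm_apply_apply] at h
    exact h
  have hNc : F.IsCentric N := isCentric_mono hRc hRN hNle
  obtain ⟨ψ₁, hψ₁, hag⟩ := (isReceptive_of_isFullyCentralized hS hF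
    (isFullyCentralized_of_isCentric hNc)).2 N φ hφmem (range_autHom ψ)
  have hψM := restrict_mem hψ₁ hMext
  set ψ₂ := ψ₁.comp (Subgroup.inclusion hMext) with hψ₂
  have hψ2N : ∀ v : N, ψ₂ (κ v) = (ψ v : Ω) := fun v => hag v v.2 _
  have hψ2x : ψ₂ x' ∈ M := by
    have hC : (h₀ : Ω)⁻¹ * ψ₂ x' ∈ centralizerIn S N := by
      refine ⟨S.mul_mem (S.inv_mem (hMS h₀.2)) (val_mem hψM x'), fun v hv => ?_⟩
      have h := congrArg Subtype.val (hkey ⟨v, hv⟩)
      have h2 : ((ψ (cx (ψ.symm ⟨v, hv⟩)) : N) : Ω) = ψ₂ x' * v * (ψ₂ x')⁻¹ := by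
        rw [← hψ2N, hcx, map_mul, map_mul, map_inv, hψ2N, MulEquiv.apply_symm_apply]
      have h3 : ψ₂ x' * v * (ψ₂ x')⁻¹ = (h₀ : Ω) * v * (h₀ : Ω)⁻¹ := h2.symm.trans h
      calc v * ((h₀ : Ω)⁻¹ * ψ₂ x') = (h₀ : Ω)⁻¹ * ((h₀ : Ω) * v * (h₀ : Ω)⁻¹) * ψ₂ x' := by group
        _ = (h₀ : Ω)⁻¹ * ψ₂ x' * v := by rw [← h3]; group
    have h := M.mul_mem h₀.2 (hNM (centralizerIn_le_of_isCentric hNc hC))
    rwa [mul_inv_cancel_left] at h
  obtain ⟨Ψ, -, hΨ⟩ := exists_aut_of_hom hψM fun a => by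
    obtain ⟨n, h, rfl⟩ := hMdec a
    rw [map_mul, map_pow]
    exact M.mul_mem (M.pow_mem hψ2x n) (by rw [hψ2N]; exact hNM (ψ h).2)
  have hΨκ : ∀ v : N, Ψ (κ v) = κ (ψ v) := fun v => Subtype.ext ((hΨ _).trans (hψ2N v))
  haveI : IsCyclic Z := isCyclic_of_prime_card hZcard
  have hZc : Z ≤ Subgroup.center M := fun n hn => Subgroup.mem_center_iff.2 fun a =>
    mul_inv_eq_iff_eq_mul.1 (mul_inv_eq_one.1 (Subgroup.mem_bot.1
      (comm_mem_of_index_prime hG (bot_le : (⊥ : Subgroup M) ≤ Z)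
        (by rw [Subgroup.card_bot, mul_one, hZcard]) a hn)))
  refine no_extension hp5 hG hrk hEH hZE le_rfl hHcard hEcard hZcard hexp hZc x' (κ m)
    ⟨m, Subgroup.mem_top _, rfl⟩ hmE hwZ ⟨x' ^ p, ⟨⟨_, hxp⟩, Subgroup.mem_top _, Subtype.ext rfl⟩, 1,
      one_mem _, (mul_one _).symm⟩ (fun a => ?_) Ψ ?_ ?_ ((p - 1) / 2) ?_ (half_sq_ne_one hp5)
  · obtain ⟨n, h, rfl⟩ := hMdec a
    exact ⟨n, κ h, ⟨h, Subgroup.mem_top _, rfl⟩, 1, one_mem _, (mul_one _).symm⟩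
  · intro e he
    obtain ⟨v, -, rfl⟩ := hEH he
    rw [hΨκ]
    exact hautE ψ hψ v he
  · rintro _ ⟨v, hv, rfl⟩
    rw [hΨκ]
    exact Subgroup.mem_map_of_mem κ (hautL ψ v hv)
  · rw [hΨκ, hψm, map_pow, inv_mul_cancel]
    exact one_mem _

end Cfsg.Agent.Lib.RankTwoFusion
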