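import Cfsg.Agent.Lib.RankTwoFusion.CaseAbelian
import Cfsg.Agent.Lib.Fusion87.Small
import Cfsg.Agent.Lib.Fusion.Solvable

/-!
For `p ≥ 5` every `p`-group of rank two other than the extraspecial group of order `p³` and exponent `p` is
resistant.
-/

set_option autoImplicit false

namespace Cfsg.Agent.Lib.RankTwoFusion

open Cfsg Cfsg.FusionSystem Cfsg.Agent.Lib.Fusion

variable {Ω : Type*} [Group Ω] {S : Subgroup Ω} {F : FusionSystem S} {p : ℕ}

theorem isNormal_top [hp : Fact p.Prime] [Finite S] (hp5 : 5 ≤ p) (hS : IsPGroup p S)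
    (hF : F.IsSaturated p)
    (hrank3 : ∀ E : Subgroup Ω, E ≤ S → IsElementaryAbelian p E → Nat.card E ≤ p ^ 2)
    (hnot : ¬ (Nat.card S = p ^ 3 ∧ Monoid.exponent ↥S = p)) : F.IsNormal S := by
  classical
  refine Fusion87.isNormal_of_le_centric_radical hS hF (stronglyClosed_self F) fun R hRn hRc hRr =>
    Fusion87.le_of_normalizerIn_le hS hRn.1 le_rfl Subgroup.le_normalizer fun g hgS hgN => ?_
  by_contra hgR
  haveI : Finite R := finite_of_le hRn.1
  -- an element of order `p` modulo `R`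
  have hex : ∃ k, g ^ p ^ k ∈ R := by
    obtain ⟨k, hk⟩ := hS ⟨g, hgS⟩
    exact ⟨k, by rw [show g ^ p ^ k = 1 from congrArg Subtype.val hk]; exact one_mem _⟩
  obtain ⟨k, hk⟩ : ∃ k, Nat.find hex = k + 1 := Nat.exists_eq_succ_of_ne_zero fun h => hgR (by
    have := Nat.find_spec hex
    rwa [h, pow_zero, pow_one] at this)
  let g₁ : normalizerIn S R := ⟨g ^ p ^ k, S.pow_mem hgS _, Subgroup.pow_mem _ hgN _⟩
  have hg₁ : (g₁ : Ω) ∉ R := Nat.find_min hex (m := k) (by omega)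
  have hg₁p : (g₁ : Ω) ^ p ∈ R := by
    show (g ^ p ^ k) ^ p ∈ R
    rw [← pow_mul, ← pow_succ, ← hk]
    exact Nat.find_spec hex
  -- the detecting subgroup
  obtain ⟨C, hC, hCs, hCf⟩ := Fusion87.exists_small_characteristic (hS.to_le hRn.1)
  haveI := hC
  have hCexp : ∀ c ∈ C, c ^ p = 1 := fun c hc => (hCs c hc).resolve_right fun h => by omega
  have hCf' : ∀ a : MulAut R, (orderOf a).Coprime p → (∀ c ∈ C, a c = c) → a = 1 := hCf
  have hC3 : Nat.card C ≤ p ^ 3 :=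
    card_le_of_exponent (fun c => Subtype.ext (hCexp c c.2)) ((noBig_of_le hrank3 hRn.1).subgroup C)
  by_cases hC2 : Nat.card C ≤ p ^ 2
  · exact false_of_abelian hp5 hS hF hrank3 hnot hRn hRc hRr C hCexp hC2 hCf' g₁ hg₁ hg₁p
  · obtain ⟨n, hn⟩ := IsPGroup.iff_card.1 ((hS.to_le hRn.1).to_subgroup C)
    have hn2 : 2 < n := by
      by_contra h
      exact hC2 (hn ▸ Nat.pow_le_pow_right hp.out.pos (by omega))
    have hn3 : n ≤ 3 := (pow_le_pow_iff_right₀ hp.out.one_lt).1 (hn ▸ hC3)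
    refine false_of_heisenberg hp5 hS hF hrank3 hRn hRc hRr C hCexp ?_ hCf' g₁ hg₁ hg₁p
    rw [hn, show n = 3 by omega]

end Cfsg.Agent.Lib.RankTwoFusion
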